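import Mathlib.LinearAlgebra.FiniteDimensional.Lemmas
import Mathlib.GroupTheory.GroupAction.FixingSubgroup
import Mathlib.GroupTheory.OrderOfElement
import Mathlib.FieldTheory.Finiteness
import Mathlib.Algebra.Field.ZMod
import Mathlib.Algebra.Module.ZMod
import Mathlib.Algebra.CharP.Two
import Mathlib.LinearAlgebra.Basis.VectorSpace

/-!
Binary linear groups (point stabilisers of binary primitive affine groups): a group `H` acting
linearly on a finite `F_p`-space such that any relation between two configurations which holds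
pairwise (on vectors and on differences) is induced by a single element.

Basic consequences: the swap lemma, the inversion lemma, the rule for orbits in affine
translates of commutator spaces.
-/

set_option autoImplicit false

namespace Cfsg.Agent.BinAff

variable (p : ℕ) [Fact p.Prime] (V : Type*) [AddCommGroup V] [Module (ZMod p) V]
variable {H : Type*} [Group H] [DistribMulAction H V]

/-- The linear map of an element. -/
def op (g : H) : Module.End (ZMod p) V :=
  (DistribSMul.toAddMonoidHom V g).toZModLinearMap p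

/-- The fixed space of an element. -/
def Fx (g : H) : Submodule (ZMod p) V := LinearMap.ker (op p V g - 1)

/-- The moved space of an element. -/
def Mv (g : H) : Submodule (ZMod p) V := LinearMap.range (op p V g - 1)

/-- The dimension of the moved space. -/
noncomputable def rk (g : H) : ℕ := Module.finrank (ZMod p) (Mv p V g)

/-- The pointwise stabiliser of a subspace. -/
def fix (H : Type*) [Group H] [DistribMulAction H V] (S : Submodule (ZMod p) V) : Subgroup H :=
  fixingSubgroup H (S : Set V)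

/-- Binary irreducible linear groups without further structure. -/
structure Hyp (H : Type*) [Group H] [DistribMulAction H V] : Prop where
  bin : ∀ R : Set (V × V), (∀ a ∈ R, ∃ g : H, g • a.1 = a.2) →
    (∀ a ∈ R, ∀ b ∈ R, ∃ g : H, g • (a.1 - b.1) = a.2 - b.2) → ∃ g : H, ∀ a ∈ R, g • a.1 = a.2
  irr : ∀ W : Submodule (ZMod p) V, (∀ (g : H), ∀ x ∈ W, g • x ∈ W) → W = ⊥ ∨ W = ⊤

variable {p V}

@[simp] theorem op_apply (g : H) (x : V) : op p V g x = g • x := rfl

theorem op_sub_one_apply (g : H) (x : V) : (op p V g - 1) x = g • x - x := by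
  simp [LinearMap.sub_apply]

theorem mem_Fx {g : H} {x : V} : x ∈ Fx p V g ↔ g • x = x := by
  simp [Fx, LinearMap.mem_ker, sub_eq_zero]

theorem mem_Mv {g : H} {x : V} : x ∈ Mv p V g ↔ ∃ v, g • v - v = x := by
  simp [Mv, LinearMap.mem_range]

theorem sub_mem_Mv (g : H) (v : V) : g • v - v ∈ Mv p V g := mem_Mv.2 ⟨v, rfl⟩

theorem mem_fix {S : Submodule (ZMod p) V} {g : H} :
    g ∈ fix p V H S ↔ ∀ x ∈ S, g • x = x := mem_fixingSubgroup_iff H

theorem mem_fix_iff_le {S : Submodule (ZMod p) V} {g : H} :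
    g ∈ fix p V H S ↔ S ≤ Fx p V g := by
  rw [mem_fix]
  exact ⟨fun h x hx => mem_Fx.2 (h x hx), fun h x hx => mem_Fx.1 (h hx)⟩

theorem Fx_eq_top_iff [FaithfulSMul H V] {g : H} : Fx p V g = ⊤ ↔ g = 1 := by
  constructor
  · intro h
    refine FaithfulSMul.eq_of_smul_eq_smul (α := V) fun x => ?_
    rw [one_smul]; exact mem_Fx.1 (h ▸ Submodule.mem_top)
  · rintro rfl
    exact eq_top_iff.2 fun x _ => mem_Fx.2 (one_smul _ _)

theorem Mv_eq_bot_iff [FaithfulSMul H V] {g : H} : Mv p V g = ⊥ ↔ g = 1 := by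
  constructor
  · intro h
    refine FaithfulSMul.eq_of_smul_eq_smul (α := V) fun x => ?_
    rw [one_smul, ← sub_eq_zero, ← Submodule.mem_bot (R := ZMod p), ← h]
    exact sub_mem_Mv g x
  · rintro rfl
    exact eq_bot_iff.2 fun x hx => by
      obtain ⟨v, rfl⟩ := mem_Mv.1 hx
      simp

theorem rk_add (g : H) [Finite V] :
    rk p V g + Module.finrank (ZMod p) (Fx p V g) = Module.finrank (ZMod p) V :=
  LinearMap.finrank_range_add_finrank_ker _

theorem rk_le_of_le [Finite V] {g : H} {W : Submodule (ZMod p) V} (h : W ≤ Fx p V g) :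
    rk p V g + Module.finrank (ZMod p) W ≤ Module.finrank (ZMod p) V := by
  have := Submodule.finrank_mono h
  have := rk_add (p := p) (V := V) g
  omega

theorem rk_pos [FaithfulSMul H V] [Finite V] {g : H} (hg : g ≠ 1) : 0 < rk p V g := by
  refine Nat.pos_of_ne_zero fun h => hg ?_
  exact Mv_eq_bot_iff.1 (Submodule.finrank_eq_zero.1 h)

/-- Conjugates have conjugate fixed spaces. -/
theorem mem_Fx_conj {h g : H} {x : V} : h • x ∈ Fx p V (h * g * h⁻¹) ↔ x ∈ Fx p V g := by
  rw [mem_Fx, mem_Fx, smul_smul, inv_mul_cancel_right, ← smul_smul, smul_left_cancel_iff]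

theorem mem_Mv_conj {h g : H} {x : V} : h • x ∈ Mv p V (h * g * h⁻¹) ↔ x ∈ Mv p V g := by
  constructor
  · intro hx
    obtain ⟨v, hv⟩ := mem_Mv.1 hx
    refine mem_Mv.2 ⟨h⁻¹ • v, smul_left_cancel h ?_⟩
    rw [smul_sub, smul_smul, smul_smul, smul_smul, mul_inv_cancel, one_smul]
    exact hv
  · intro hx
    obtain ⟨v, rfl⟩ := mem_Mv.1 hx
    refine mem_Mv.2 ⟨h • v, ?_⟩
    rw [smul_sub, smul_smul, inv_mul_cancel_right, ← smul_smul]

theorem rk_conj [Finite V] (h g : H) : rk p V (h * g * h⁻¹) = rk p V g := by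
  let e : V ≃ₗ[ZMod p] V :=
    { op p V h with
      invFun := fun x => h⁻¹ • x
      left_inv := fun x => inv_smul_smul h x
      right_inv := fun x => smul_inv_smul h x }
  have : (Mv p V g).map (e : V →ₗ[ZMod p] V) = Mv p V (h * g * h⁻¹) := by
    ext x
    simp only [Submodule.mem_map]
    constructor
    · rintro ⟨y, hy, rfl⟩
      exact mem_Mv_conj.2 hy
    · intro hx
      refine ⟨h⁻¹ • x, ?_, smul_inv_smul h x⟩
      rw [← smul_inv_smul h x] at hx
      exact mem_Mv_conj.1 hx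
  rw [rk, ← this, LinearEquiv.finrank_map_eq]
  rfl

theorem Fx_le_mul {g h : H} {W : Submodule (ZMod p) V} (hg : W ≤ Fx p V g) (hh : W ≤ Fx p V h) :
    W ≤ Fx p V (g * h) := fun x hx =>
  mem_Fx.2 (by rw [mul_smul, mem_Fx.1 (hh hx), mem_Fx.1 (hg hx)])

theorem Mv_mul_le (g h : H) : Mv p V (g * h) ≤ Mv p V g ⊔ Mv p V h := by
  intro x hx
  obtain ⟨v, rfl⟩ := mem_Mv.1 hx
  have : (g * h) • v - v = (g • (h • v) - h • v) + (h • v - v) := by rw [mul_smul]; abel
  rw [this]
  exact Submodule.add_mem_sup (sub_mem_Mv g _) (sub_mem_Mv h _)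

/-- A commuting element maps the fixed space of `g` into itself. -/
theorem smul_mem_Fx_of_comm {g h : H} (hc : Commute h g) {x : V} (hx : x ∈ Fx p V g) :
    h • x ∈ Fx p V g := by
  rw [mem_Fx, smul_smul, ← hc.eq, mul_smul, mem_Fx.1 hx]

theorem smul_mem_Mv_of_comm {g h : H} (hc : Commute h g) {x : V} (hx : x ∈ Mv p V g) :
    h • x ∈ Mv p V g := by
  obtain ⟨v, rfl⟩ := mem_Mv.1 hx
  refine mem_Mv.2 ⟨h • v, ?_⟩
  rw [smul_sub, smul_smul, smul_smul, hc.eq]

theorem smul_add_eq (g : H) (x : V) : g • x = x + (g • x - x) := by abel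

/-- Averaging over powers: a fixed vector in the moved space is killed by every exponent. -/
theorem nsmul_eq_zero_of_mem {g : H} {x : V} {n : ℕ} (hn : g ^ n = 1) (hF : x ∈ Fx p V g)
    (hM : x ∈ Mv p V g) : n • x = 0 := by
  obtain ⟨v, rfl⟩ := mem_Mv.1 hM
  have hx := mem_Fx.1 hF
  have : ∀ i : ℕ, g ^ i • v = v + i • (g • v - v) := by
    intro i
    induction i with
    | zero => simp
    | succ i ih =>
      rw [pow_succ', mul_smul, ih, smul_add, smul_comm g i, hx, succ_nsmul]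
      abel
  have h1 := this n
  rw [hn, one_smul] at h1
  exact left_eq_add.1 h1

namespace Hyp

variable (hB : Hyp p V H)
include hB

/-- Swap lemma, relative to a subspace fixed by `g`. -/
theorem swap {S : Submodule (ZMod p) V} {g : H} (hg : g ∈ fix p V H S) (x : V) :
    ∃ k ∈ fix p V H S, k • x = g • x ∧ k • (g • x) = x := by
  let R : Set (V × V) := (fun s => (s, s)) '' (S : Set V) ∪ {(x, g • x), (x + g • x, x + g • x)}
  have hgS := mem_fix.1 hg
  have hs1 : ∀ s ∈ S, ∃ k : H, k • (s - x) = s - g • x := fun s hs =>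
    ⟨g, by rw [smul_sub, hgS s hs]⟩
  have hpx : ∃ k : H, k • (x + g • x - x) = x + g • x - g • x := ⟨g⁻¹, by simp⟩
  obtain ⟨k, hk⟩ := hB.bin R (by
    rintro a (⟨s, -, rfl⟩ | rfl | rfl)
    · exact ⟨1, one_smul _ _⟩
    · exact ⟨g, rfl⟩
    · exact ⟨1, one_smul _ _⟩) (by
    have hneg : ∀ u u' : V, (∃ k : H, k • u = u') → ∃ k : H, k • (-u) = -u' := by
      rintro u u' ⟨k, rfl⟩; exact ⟨k, smul_neg _ _⟩
    rintro a (⟨s, hs, rfl⟩ | rfl | rfl) b (⟨t, ht, rfl⟩ | rfl | rfl)
    · exact ⟨1, one_smul _ _⟩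
    · exact hs1 s hs
    · exact ⟨1, one_smul _ _⟩
    · simpa using hneg _ _ (hs1 t ht)
    · exact ⟨1, by simp⟩
    · simpa using hneg _ _ hpx
    · exact ⟨1, one_smul _ _⟩
    · exact hpx
    · exact ⟨1, one_smul _ _⟩)
  have h1 : k • x = g • x := hk (x, g • x) (Or.inr (Or.inl rfl))
  have h2 : k • (x + g • x) = x + g • x := hk (_, _) (Or.inr (Or.inr rfl))
  refine ⟨k, mem_fix.2 fun s hs => hk (s, s) (Or.inl ⟨s, hs, rfl⟩), h1, ?_⟩
  rw [smul_add, h1, add_comm x (g • x)] at h2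
  exact add_left_cancel h2

/-- Inversion lemma, relative to a subspace fixed by `g`. -/
theorem inv [Finite H] {S : Submodule (ZMod p) V} {g : H} (hg : g ∈ fix p V H S) (x : V) :
    ∃ k ∈ fix p V H S, k • x = x ∧ ∀ a ∈ Subgroup.zpowers g, k • (a • x) = a⁻¹ • x := by
  let R : Set (V × V) :=
    (fun s => (s, s)) '' (S : Set V) ∪ (fun a : H => (a • x, a⁻¹ • x)) '' (Subgroup.zpowers g : Set H)
  have hle : Subgroup.zpowers g ≤ fix p V H S := Subgroup.zpowers_le.2 hg
  have hs1 : ∀ s ∈ S, ∀ a ∈ Subgroup.zpowers g, ∃ k : H, k • (s - a • x) = s - a⁻¹ • x :=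
    fun s hs a ha => ⟨a⁻¹ * a⁻¹, by
      have := mem_fix.1 (hle (mul_mem (inv_mem ha) (inv_mem ha))) s hs
      rw [smul_sub, this, smul_smul, inv_mul_cancel_right]⟩
  have hab : ∀ a ∈ Subgroup.zpowers g, ∀ b ∈ Subgroup.zpowers g,
      ∃ k : H, k • (a • x - b • x) = a⁻¹ • x - b⁻¹ • x := by
    intro a ha b hb
    obtain ⟨k, -, hk1, hk2⟩ := hB.swap (S := ⊥) (g := a⁻¹ * b)
      (mem_fix.2 fun s hs => by simp [(Submodule.mem_bot _).1 hs]) x
    have hab : a⁻¹ * b = b * a⁻¹ := by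
      obtain ⟨i, rfl⟩ := Subgroup.mem_zpowers_iff.1 ha
      obtain ⟨j, rfl⟩ := Subgroup.mem_zpowers_iff.1 hb
      rw [← zpow_neg, ← zpow_add, ← zpow_add, add_comm]
    refine ⟨b⁻¹ * k * a⁻¹, ?_⟩
    have e1 : a⁻¹ • (a • x - b • x) = x - (a⁻¹ * b) • x := by
      rw [smul_sub, inv_smul_smul, smul_smul]
    rw [mul_smul, mul_smul, e1, smul_sub k, hk1, hk2, smul_sub, smul_smul, hab,
      inv_mul_cancel_left]
  obtain ⟨k, hk⟩ := hB.bin R (by
    rintro a (⟨s, -, rfl⟩ | ⟨b, -, rfl⟩)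
    · exact ⟨1, one_smul _ _⟩
    · exact ⟨b⁻¹ * b⁻¹, by simp [smul_smul]⟩) (by
    rintro a (⟨s, hs, rfl⟩ | ⟨c, hc, rfl⟩) b (⟨t, ht, rfl⟩ | ⟨d, hd, rfl⟩)
    · exact ⟨1, one_smul _ _⟩
    · exact hs1 s hs d hd
    · obtain ⟨k, hk⟩ := hs1 t ht c hc
      refine ⟨k, ?_⟩
      show k • (c • x - t) = c⁻¹ • x - t
      rw [← neg_sub t, smul_neg, hk, neg_sub]
    · exact hab c hc d hd)
  refine ⟨k, mem_fix.2 fun s hs => hk (s, s) (Or.inl ⟨s, hs, rfl⟩), ?_, fun a ha =>
    hk (a • x, a⁻¹ • x) (Or.inr ⟨a, ha, rfl⟩)⟩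
  simpa using hk (_, _) (Or.inr ⟨1, one_mem _, rfl⟩)

/-- The orbit rule: an orbit meets the translates of commutator spaces of stabiliser elements
only trivially. -/
theorem urule {u v : V} {g h : H} (hu : h • u = u) (he : g • u = u + (h • v - v)) :
    g • u = u := by
  let R : Set (V × V) := {(u, u), (-v, h • (-v)), (u + -v, u + -v)}
  have hd : ∃ k : H, k • (u + -v - -v) = u + -v - h • (-v) :=
    ⟨g, by rw [add_sub_cancel_right, he, smul_neg]; abel⟩
  have hd' : ∃ k : H, k • (-v - (u + -v)) = h • (-v) - (u + -v) := by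
    obtain ⟨k, hk⟩ := hd
    exact ⟨k, by rw [← neg_sub, smul_neg, hk, neg_sub]⟩
  obtain ⟨k, hk⟩ := hB.bin R (by
    rintro a (rfl | rfl | rfl)
    · exact ⟨1, one_smul _ _⟩
    · exact ⟨h, rfl⟩
    · exact ⟨1, one_smul _ _⟩) (by
    rintro a (rfl | rfl | rfl) b (rfl | rfl | rfl)
    · exact ⟨1, one_smul _ _⟩
    · exact ⟨h, by rw [smul_sub, hu]⟩
    · exact ⟨1, one_smul _ _⟩
    · exact ⟨h, by rw [smul_sub, hu]⟩
    · exact ⟨1, by simp⟩
    · exact hd'
    · exact ⟨1, one_smul _ _⟩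
    · exact hd
    · exact ⟨1, one_smul _ _⟩)
  have h1 : k • u = u := hk (u, u) (Or.inl rfl)
  have h2 : k • (-v) = h • (-v) := hk (_, _) (Or.inr (Or.inl rfl))
  have h3 : k • (u + -v) = u + -v := hk (_, _) (Or.inr (Or.inr rfl))
  rw [smul_add, h1, h2, add_right_inj, smul_neg, neg_inj] at h3
  rw [he, h3, sub_self, add_zero]

/-- A pointwise stabiliser which is semiregular at some vector has exponent two. -/
theorem sq_eq_one_of_regular [Finite H] [FaithfulSMul H V] {S : Submodule (ZMod p) V} {g : H}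
    (hg : g ∈ fix p V H S) (x : V) (hreg : ∀ k ∈ fix p V H S, k • x = x → k = 1) : g * g = 1 := by
  obtain ⟨k, hk, hk1, hk2⟩ := hB.inv hg x
  have := hk2 g (Subgroup.mem_zpowers g)
  rw [hreg k hk hk1, one_smul] at this
  refine hreg _ (mul_mem hg hg) ?_
  rw [mul_smul, this, smul_inv_smul]

/-- An element whose square is not one fixes some nonzero vector together with a given one. -/
theorem exists_fixing [Finite H] [FaithfulSMul H V] {S : Submodule (ZMod p) V} {g : H}
    (hg : g ∈ fix p V H S) (hg2 : g * g ≠ 1) (x : V) :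
    ∃ k ∈ fix p V H S, k ≠ 1 ∧ k • x = x := by
  by_contra hc
  push Not at hc
  refine hg2 (hB.sq_eq_one_of_regular hg x fun k hk hx => ?_)
  by_contra h1
  exact hc k hk h1 hx

/-- The common fixed space of all conjugates is invariant. -/
theorem iInf_Fx_conj (g : H) :
    (⨅ h : H, Fx p V (h * g * h⁻¹)) = ⊥ ∨ (⨅ h : H, Fx p V (h * g * h⁻¹)) = ⊤ := by
  refine hB.irr _ fun k x hx => ?_
  rw [Submodule.mem_iInf] at hx ⊢
  intro h
  have := (mem_Fx_conj (h := k) (p := p)).2 (hx (k⁻¹ * h))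
  simpa [mul_assoc] using this

end Hyp

end Cfsg.Agent.BinAff
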