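import Cfsg.Agent.Lib.Perm.BinaryAffine.Basic

/-!
The end result of the analysis of a binary linear group: a plane over the field with `p ^ f`
elements, point stabilisers of order two.
-/

set_option autoImplicit false

namespace Cfsg.Agent.BinAff

/-- Point stabilisers of order two generated by half-dimensional reflections. -/
structure Dih (p : ℕ) [Fact p.Prime] (V : Type*) [AddCommGroup V] [Module (ZMod p) V]
    (H : Type*) [Group H] [DistribMulAction H V] (f : ℕ) : Prop where
  pos : 0 < f
  dim : Module.finrank (ZMod p) V = 2 * f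
  stab : ∀ x : V, x ≠ 0 → ∃ e : H, e ≠ 1 ∧ e * e = 1 ∧ e • x = x ∧
    ∀ h : H, h • x = x → h = 1 ∨ h = e
  fixdim : ∀ e : H, e ≠ 1 → (∃ x : V, x ≠ 0 ∧ e • x = x) → Module.finrank (ZMod p) (Fx p V e) = f
  no4 : ∀ g e : H, g * g = e → e ≠ 1 → (∃ x : V, x ≠ 0 ∧ e • x = x) → False

end Cfsg.Agent.BinAff
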