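import Cfsg.Agent.Lib.Perm.BinaryAffine.Basic
import Mathlib.GroupTheory.Perm.Cycle.Type
import Mathlib.Algebra.CharP.Lemmas
import Mathlib.Algebra.Polynomial.AlgebraMap
import Mathlib.FieldTheory.Finiteness

/-!
Binary linear groups in odd characteristic: semisimplicity, roots (minimal pointwise
stabilisers have order two), pairs of noncommuting roots span a plane with half-dimensional
roots.
-/

set_option autoImplicit false

namespace Cfsg.Agent.BinAff

open scoped Classical

variable (p : ℕ) [Fact p.Prime] (V : Type*) [AddCommGroup V] [Module (ZMod p) V]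

/-- An involution whose fixed space has stabiliser of order two. -/
def IsRoot {H : Type*} [Group H] [DistribMulAction H V] (e : H) : Prop :=
  e ≠ 1 ∧ ∀ k ∈ fix p V H (Fx p V e), k = 1 ∨ k = e

/-- Elements of nontrivial square move at least a space of dimension `m`. -/
def MinMove (H : Type*) [Group H] [DistribMulAction H V] (m : ℕ) : Prop :=
  ∀ g : H, g * g ≠ 1 → m ≤ rk p V g

/-- The nonzero vectors of a subspace. -/
noncomputable def nz [Finite V] (S : Submodule (ZMod p) V) : Finset V :=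
  haveI := Fintype.ofFinite V
  Finset.univ.filter fun x => x ∈ S ∧ x ≠ 0

variable {p V}

theorem mem_nz [Finite V] {S : Submodule (ZMod p) V} {x : V} : x ∈ nz p V S ↔ x ∈ S ∧ x ≠ 0 := by
  simp [nz]

theorem card_nz [Finite V] (S : Submodule (ZMod p) V) :
    (nz p V S).card = p ^ Module.finrank (ZMod p) S - 1 := by
  haveI := Fintype.ofFinite V
  have h1 : nz p V S = (Finset.univ.filter fun x => x ∈ S).erase 0 := by
    ext x; simp [nz, and_comm]
  rw [h1, Finset.card_erase_of_mem (by simp), ← Fintype.card_subtype,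
    ← Nat.card_eq_fintype_card, Module.natCard_eq_pow_finrank (K := ZMod p) (V := S), Nat.card_zmod]

theorem self_add_eq_zero (hp : p ≠ 2) {x : V} (h : x + x = 0) : x = 0 := by
  have h2 : (2 : ZMod p) ≠ 0 := by
    intro h0
    have : ((2 : ℕ) : ZMod p) = 0 := by exact_mod_cast h0
    rw [ZMod.natCast_eq_zero_iff] at this
    exact hp ((Nat.prime_dvd_prime_iff_eq Fact.out Nat.prime_two).1 this)
  rw [← two_smul (ZMod p) x] at h
  exact (smul_eq_zero.1 h).resolve_left h2

variable {H : Type*} [Group H] [DistribMulAction H V]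

theorem smul_smul_self {e : H} (he : e * e = 1) (x : V) : e • (e • x) = x := by
  rw [smul_smul, he, one_smul]

theorem smul_eq_neg_of_mem_Mv {e : H} (he : e * e = 1) {x : V} (hx : x ∈ Mv p V e) :
    e • x = -x := by
  obtain ⟨v, rfl⟩ := mem_Mv.1 hx
  rw [smul_sub, smul_smul_self he, neg_sub]

theorem mem_Mv_of_neg (hp : p ≠ 2) {e : H} {x : V} (hx : e • x = -x) : x ∈ Mv p V e := by
  have h2 : x + x ∈ Mv p V e := by
    have := Submodule.neg_mem _ (sub_mem_Mv (p := p) e x)
    rwa [hx, neg_sub, sub_neg_eq_add] at this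
  have h20 : (2 : ZMod p) ≠ 0 := by
    intro h0
    have : ((2 : ℕ) : ZMod p) = 0 := by exact_mod_cast h0
    rw [ZMod.natCast_eq_zero_iff] at this
    exact hp ((Nat.prime_dvd_prime_iff_eq Fact.out Nat.prime_two).1 this)
  have := (Mv p V e).smul_mem (2 : ZMod p)⁻¹ h2
  rwa [← two_smul (ZMod p) x, smul_smul, inv_mul_cancel₀ h20, one_smul] at this

theorem commute_of_sq {g h : H} (hg : g * g = 1) (hh : h * h = 1) (hgh : g * h * (g * h) = 1) :
    Commute g h := by
  have : g * h = (g * h)⁻¹ := eq_inv_of_mul_eq_one_left hgh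
  rw [mul_inv_rev, inv_eq_of_mul_eq_one_left hg, inv_eq_of_mul_eq_one_left hh] at this
  exact this

theorem ext_of_spans [FaithfulSMul H V] {S T : Submodule (ZMod p) V} (hST : S ⊔ T = ⊤) {g : H}
    (hS : S ≤ Fx p V g) (hT : T ≤ Fx p V g) : g = 1 :=
  Fx_eq_top_iff.1 (top_le_iff.1 (hST ▸ sup_le hS hT))

namespace Hyp

variable (hB : Hyp p V H) (hp : p ≠ 2)
include hB hp

theorem disjoint_Fx_Mv (g : H) : Disjoint (Fx p V g) (Mv p V g) := by
  rw [Submodule.disjoint_def]
  intro x hx hM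
  obtain ⟨v, rfl⟩ := mem_Mv.1 hM
  obtain ⟨k, hk, hk1, hk2⟩ := hB.swap (S := Fx p V g) (g := g) (mem_fix_iff_le.2 le_rfl) v
  have h1 := mem_fix.1 hk _ hx
  rw [smul_sub, hk1, hk2] at h1
  apply self_add_eq_zero hp
  nth_rewrite 1 [← h1]
  abel

theorem Fx_sup_Mv [Finite V] (g : H) : Fx p V g ⊔ Mv p V g = ⊤ := by
  refine Submodule.eq_top_of_disjoint _ _ ?_ (hB.disjoint_Fx_Mv hp g)
  have := rk_add (p := p) (V := V) g
  rw [rk] at this
  omega

theorem eq_one_of_pow [FaithfulSMul H V] {g : H} (hg : g ^ p = 1) : g = 1 := by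
  have hX : ((Polynomial.X : Polynomial (ZMod p)) - 1) ^ p = Polynomial.X ^ p - 1 := by
    rw [sub_pow_char, one_pow]
  have hpow : ∀ n : ℕ, (op p V g) ^ n = op p V (g ^ n) := by
    intro n
    induction n with
    | zero => ext x; simp
    | succ n ih => ext x; rw [pow_succ, ih, Module.End.mul_apply]; simp [pow_succ, mul_smul]
  have hN : (op p V g - 1) ^ p = 0 := by
    have := congrArg (Polynomial.aeval (op p V g)) hX
    simp only [map_sub, map_pow, Polynomial.aeval_X, map_one] at this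
    rw [this, hpow, hg]
    ext x; simp
  have hker : ∀ (n : ℕ) (x : V), ((op p V g - 1) ^ n) x = 0 → (op p V g - 1) x = 0 := by
    intro n
    induction n with
    | zero => intro x hx; simp only [pow_zero, Module.End.one_apply] at hx; simp [hx]
    | succ n ih =>
      intro x hx
      rw [pow_succ, Module.End.mul_apply] at hx
      have h1 := ih _ hx
      have h2 : (op p V g - 1) x ∈ Fx p V g := LinearMap.mem_ker.2 h1
      exact Submodule.disjoint_def.1 (hB.disjoint_Fx_Mv hp g) _ h2 (LinearMap.mem_range_self _ x)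
  refine (Fx_eq_top_iff (p := p) (V := V)).1 (eq_top_iff.2 fun x _ => ?_)
  exact LinearMap.mem_ker.2 (hker p x (by rw [hN]; simp))

variable [Finite H] [FaithfulSMul H V]

theorem not_dvd_card : ¬ p ∣ Nat.card H := fun h => by
  obtain ⟨g, hg⟩ := exists_prime_orderOf_dvd_card' p h
  have h1 : g = 1 := hB.eq_one_of_pow hp (hg ▸ pow_orderOf_eq_one g)
  rw [h1, orderOf_one] at hg
  exact (Fact.out : p.Prime).one_lt.ne hg

/-- Moved spaces of a pointwise stabiliser avoid the fixed subspace. -/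
theorem disjoint_iSup_Mv (S : Submodule (ZMod p) V) :
    Disjoint S (⨆ k ∈ fix p V H S, Mv p V k) := by
  haveI := Fintype.ofFinite H
  let K := fix p V H S
  let π : Module.End (ZMod p) V := ∑ k : K, op p V (k : H)
  have hker : (⨆ k ∈ fix p V H S, Mv p V k) ≤ LinearMap.ker π := by
    refine iSup₂_le fun k hk x hx => ?_
    obtain ⟨v, rfl⟩ := mem_Mv.1 hx
    rw [LinearMap.mem_ker, map_sub, sub_eq_zero]
    simp only [π, LinearMap.sum_apply, op_apply, smul_smul]
    exact Fintype.sum_equiv (Equiv.mulRight (⟨k, hk⟩ : K)) _ (fun j : K => (j : H) • v)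
      (fun j => rfl)
  rw [Submodule.disjoint_def]
  intro x hx hM
  have h1 := LinearMap.mem_ker.1 (hker hM)
  simp only [π, LinearMap.sum_apply, op_apply] at h1
  rw [Finset.sum_congr rfl (fun (j : K) _ => mem_fix.1 j.2 x hx), Finset.sum_const,
    Finset.card_univ, ← Nat.card_eq_fintype_card, ← Nat.cast_smul_eq_nsmul (ZMod p)] at h1
  refine (smul_eq_zero.1 h1).resolve_left fun h0 => ?_
  rw [ZMod.natCast_eq_zero_iff] at h0
  exact hB.not_dvd_card hp (h0.trans (Subgroup.card_subgroup_dvd_card K))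

/-- Every nontrivial element lies below a root. -/
theorem exists_root [Finite V] {k : H} (hk : k ≠ 1) :
    ∃ e : H, IsRoot p V e ∧ Fx p V k ≤ Fx p V e := by
  haveI := Fintype.ofFinite H
  obtain ⟨e, he, hmax⟩ := Finset.exists_max_image
    (Finset.univ.filter fun j : H => j ≠ 1 ∧ Fx p V k ≤ Fx p V j)
    (fun j => Module.finrank (ZMod p) (Fx p V j)) ⟨k, by simp [hk]⟩
  simp only [Finset.mem_filter, Finset.mem_univ, true_and] at he hmax
  refine ⟨e, ⟨he.1, ?_⟩, he.2⟩
  have heq : ∀ j ∈ fix p V H (Fx p V e), j ≠ 1 → Fx p V j = Fx p V e := fun j hj hj1 =>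
    (Submodule.eq_of_le_of_finrank_le (mem_fix_iff_le.1 hj)
      (hmax j ⟨hj1, he.2.trans (mem_fix_iff_le.1 hj)⟩)).symm
  obtain ⟨x, hx⟩ : ∃ x, x ∉ Fx p V e := by
    by_contra hc
    push Not at hc
    exact he.1 (Fx_eq_top_iff.1 (eq_top_iff.2 fun x _ => hc x))
  have hsq : ∀ j ∈ fix p V H (Fx p V e), j * j = 1 := fun j hj =>
    hB.sq_eq_one_of_regular hj x fun i hi hix => by
      by_contra hi1
      exact hx (heq i hi hi1 ▸ mem_Fx.2 hix)
  intro j hj
  rcases eq_or_ne j 1 with h | hj1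
  · exact Or.inl h
  right
  have hem : e ∈ fix p V H (Fx p V e) := mem_fix_iff_le.2 le_rfl
  have hc : Commute j e := commute_of_sq (hsq j hj) (hsq e hem) (hsq _ (mul_mem hj hem))
  have hone : j * e = 1 := by
    refine ext_of_spans (hB.Fx_sup_Mv hp e) (mem_fix_iff_le.1 (mul_mem hj hem)) fun x hx => ?_
    have h1 : j • x + x = 0 := by
      refine Submodule.disjoint_def.1 (hB.disjoint_Fx_Mv hp e) _ ?_
        (Submodule.add_mem _ (smul_mem_Mv_of_comm hc hx) hx)
      rw [← heq j hj hj1, mem_Fx, smul_add, smul_smul_self (hsq j hj), add_comm]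
    rw [mem_Fx, mul_smul, smul_eq_neg_of_mem_Mv (hsq e hem) hx, smul_neg,
      eq_neg_of_add_eq_zero_left h1, neg_neg]
  rw [eq_inv_of_mul_eq_one_left hone, inv_eq_of_mul_eq_one_left (hsq e hem)]

end Hyp

/-- Two negated vectors in one orbit: an element fixing their sum and negating their
difference. -/
theorem Hyp.flip (hB : Hyp p V H) {e g : H} {a : V} (hea : e • a = -a)
    (heb : e • (g • a) = -(g • a)) : ∃ k ∈ fix p V H (Fx p V e),
      k • (a + g • a) = a + g • a ∧ k • (a - g • a) = -(a - g • a) := by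
  let m1 := a + g • a
  let m2 := a - g • a
  have hem2 : e • m2 = -m2 := by simp only [m2, smul_sub, hea, heb]; abel
  let R : Set (V × V) := (fun s => (s, s)) '' (Fx p V e : Set V) ∪ {(m1, m1), (m2, -m2)}
  have hs : ∀ s ∈ Fx p V e, ∃ k : H, k • (s - m2) = s - -m2 := fun s hs =>
    ⟨e, by rw [smul_sub, mem_Fx.1 hs, hem2]⟩
  have hneg : ∀ u u' : V, (∃ k : H, k • u = u') → ∃ k : H, k • (-u) = -u' := by
    rintro u u' ⟨k, rfl⟩; exact ⟨k, smul_neg _ _⟩
  have h12 : ∃ k : H, k • (m1 - m2) = m1 - -m2 :=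
    ⟨g⁻¹, by
      simp only [m1, m2, show a + g • a - (a - g • a) = g • a + g • a by abel,
        show a + g • a - -(a - g • a) = a + a by abel]
      rw [smul_add, inv_smul_smul]⟩
  obtain ⟨k, hk⟩ := hB.bin R (by
    rintro x (⟨s, -, rfl⟩ | rfl | rfl)
    · exact ⟨1, one_smul _ _⟩
    · exact ⟨1, one_smul _ _⟩
    · exact ⟨e, hem2⟩) (by
    rintro x (⟨s, hs', rfl⟩ | rfl | rfl) y (⟨t, ht, rfl⟩ | rfl | rfl)
    · exact ⟨1, one_smul _ _⟩
    · exact ⟨1, one_smul _ _⟩
    · exact hs s hs'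
    · exact ⟨1, one_smul _ _⟩
    · exact ⟨1, one_smul _ _⟩
    · exact h12
    · simpa [add_comm, sub_eq_add_neg] using hneg _ _ (hs t ht)
    · simpa [add_comm, sub_eq_add_neg] using hneg _ _ h12
    · exact ⟨1, by simp⟩)
  exact ⟨k, mem_fix.2 fun s hs => hk (s, s) (Or.inl ⟨s, hs, rfl⟩), hk (_, _) (Or.inr (Or.inl rfl)),
    hk (_, _) (Or.inr (Or.inr rfl))⟩

namespace IsRoot

variable {e : H} (he : IsRoot p V e)
include he

theorem sq : e * e = 1 := by
  have hem : e ∈ fix p V H (Fx p V e) := mem_fix_iff_le.2 le_rfl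
  rcases he.2 _ (mul_mem hem hem) with h | h
  · exact h
  · exact absurd (mul_eq_right.1 h) he.1

theorem conj (h : H) : IsRoot p V (h * e * h⁻¹) := by
  refine ⟨fun hc => he.1 (conj_eq_one_iff.1 hc), fun k hk => ?_⟩
  have : h⁻¹ * k * h ∈ fix p V H (Fx p V e) := by
    rw [mem_fix]
    intro x hx
    rw [mul_smul, mul_smul, mem_fix.1 hk _ (mem_Fx_conj.2 hx), inv_smul_smul]
  rcases he.2 _ this with h1 | h1
  · refine Or.inl ?_
    have := congrArg (fun y => h * y * h⁻¹) h1
    simpa [mul_assoc] using this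
  · refine Or.inr ?_
    have := congrArg (fun y => h * y * h⁻¹) h1
    simpa [mul_assoc] using this

/-- An orbit meets the moved space of a root in a pair of opposite vectors. -/
theorem orbit_Mv (hB : Hyp p V H) (hp : p ≠ 2) {g : H} {a : V} (ha : a ∈ Mv p V e)
    (hb : g • a ∈ Mv p V e) : g • a = a ∨ g • a = -a := by
  have hea := smul_eq_neg_of_mem_Mv he.sq ha
  obtain ⟨k, hkf, hk1, hk2⟩ := hB.flip hea (smul_eq_neg_of_mem_Mv he.sq hb)
  rcases he.2 k hkf with rfl | rfl
  · rw [one_smul, eq_neg_iff_add_eq_zero] at hk2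
    exact Or.inl (sub_eq_zero.1 (self_add_eq_zero hp hk2)).symm
  · rw [smul_add, hea, smul_eq_neg_of_mem_Mv he.sq hb, ← neg_add,
      neg_eq_iff_add_eq_zero] at hk1
    exact Or.inr (eq_neg_of_add_eq_zero_right (self_add_eq_zero hp hk1))

/-- A centralising element is a sign on the moved space. -/
theorem comm_sign (hB : Hyp p V H) (hp : p ≠ 2) {h : H} (hc : Commute h e) :
    (∀ m ∈ Mv p V e, h • m = m) ∨ (∀ m ∈ Mv p V e, h • m = -m) := by
  have key : ∀ m ∈ Mv p V e, h • m = m ∨ h • m = -m := fun m hm =>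
    he.orbit_Mv hB hp hm (smul_mem_Mv_of_comm hc hm)
  by_contra hcon
  rw [not_or] at hcon
  obtain ⟨h1, h2⟩ := hcon
  push Not at h1 h2
  obtain ⟨m, hm, hm'⟩ := h1
  obtain ⟨n, hn, hn'⟩ := h2
  have e1 := (key m hm).resolve_left hm'
  have e2 := (key n hn).resolve_right hn'
  rcases key (m + n) (Submodule.add_mem _ hm hn) with h3 | h3 <;>
    rw [smul_add, e1, e2] at h3
  · exact hm' (by rw [e1]; exact add_right_cancel h3)
  · rw [neg_add, add_right_inj] at h3
    exact hn' (by rw [e2]; exact h3)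

end IsRoot

namespace Hyp

variable (hB : Hyp p V H) (hp : p ≠ 2) [Finite V] [FaithfulSMul H V]
include hB hp

/-- Commuting distinct roots fix each other's moved spaces. -/
theorem Mv_le_Fx_of_commute {e e' : H} (he : IsRoot p V e) (he' : IsRoot p V e') (hne : e ≠ e')
    (hc : Commute e e') : Mv p V e' ≤ Fx p V e ∧ Mv p V e ≤ Fx p V e' := by
  have hpos : ∀ r : H, r ≠ 1 → ∃ m ∈ Mv p V r, m ≠ 0 := fun r hr =>
    Submodule.exists_mem_ne_zero_of_ne_bot fun h => hr (Mv_eq_bot_iff.1 h)
  have hnn : ∀ r r' : H, IsRoot p V r → IsRoot p V r' → Commute r r' →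
      (∀ m ∈ Mv p V r, r' • m = -m) → (∀ m ∈ Mv p V r', r • m = m) → False := by
    intro r r' hr hr' _ h1 h2
    obtain ⟨m, hm, hm0⟩ := hpos r hr.1
    have h3 := h2 m (mem_Mv_of_neg hp (h1 m hm))
    rw [smul_eq_neg_of_mem_Mv hr.sq hm, neg_eq_iff_add_eq_zero] at h3
    exact hm0 (self_add_eq_zero hp h3)
  rcases he.comm_sign hB hp hc.symm with h1 | h1 <;>
    rcases he'.comm_sign hB hp hc with h2 | h2
  · exact ⟨fun m hm => mem_Fx.2 (h2 m hm), fun m hm => mem_Fx.2 (h1 m hm)⟩
  · exact (hnn e' e he' he hc.symm h2 h1).elim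
  · exact (hnn e e' he he' hc h1 h2).elim
  · exfalso
    have hMM : Mv p V e = Mv p V e' :=
      le_antisymm (fun m hm => mem_Mv_of_neg hp (h1 m hm))
        (fun m hm => mem_Mv_of_neg hp (h2 m hm))
    have hF : Fx p V e ≤ Fx p V e' := by
      intro x hx
      rw [mem_Fx, ← sub_eq_zero]
      refine Submodule.disjoint_def.1 (hB.disjoint_Fx_Mv hp e) _
        (Submodule.sub_mem _ (smul_mem_Fx_of_comm hc.symm hx) hx) ?_
      rw [hMM]
      exact sub_mem_Mv e' x
    exact (he.2 e' (mem_fix_iff_le.2 hF)).elim he'.1 fun h => hne h.symm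

/-- Pairwise commuting roots cannot cover all vectors by their fixed spaces. -/
theorem exists_not_fixed (E : Finset H) (hE : ∀ e ∈ E, IsRoot p V e)
    (hc : ∀ e ∈ E, ∀ t ∈ E, Commute e t) : ∃ x : V, ∀ e ∈ E, e • x ≠ x := by
  induction E using Finset.induction_on with
  | empty => exact ⟨0, by simp⟩
  | insert e E hnot ih =>
    obtain ⟨x, hx⟩ := ih (fun r hr => hE r (Finset.mem_insert_of_mem hr))
      (fun r hr t ht => hc r (Finset.mem_insert_of_mem hr) t (Finset.mem_insert_of_mem ht))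
    have her := hE e (Finset.mem_insert_self e E)
    by_cases hex : e • x = x
    · obtain ⟨m, hm, hm0⟩ := Submodule.exists_mem_ne_zero_of_ne_bot
        (show Mv p V e ≠ ⊥ from fun h => her.1 (Mv_eq_bot_iff.1 h))
      refine ⟨x + m, fun r hr h => ?_⟩
      rcases Finset.mem_insert.1 hr with rfl | hrE
      · rw [smul_add, hex, smul_eq_neg_of_mem_Mv her.sq hm, add_right_inj,
          neg_eq_iff_add_eq_zero] at h
        exact hm0 (self_add_eq_zero hp h)
      · have hcom : Commute r e := hc r hr e (Finset.mem_insert_self e E)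
        have h1 : r • x - x = -(r • m - m) := by
          rw [smul_add] at h
          rw [eq_neg_iff_add_eq_zero,
            show r • x - x + (r • m - m) = r • x + r • m - (x + m) by abel, h, sub_self]
        refine hx r hrE (sub_eq_zero.1 (Submodule.disjoint_def.1 (hB.disjoint_Fx_Mv hp e) _
          (Submodule.sub_mem _ (smul_mem_Fx_of_comm hcom (mem_Fx.2 hex)) (mem_Fx.2 hex)) ?_))
        rw [h1]
        exact Submodule.neg_mem _ (Submodule.sub_mem _ (smul_mem_Mv_of_comm hcom hm) hm)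
    · exact ⟨x, fun r hr => (Finset.mem_insert.1 hr).elim (fun h => h ▸ hex) (hx r)⟩

end Hyp

/-- A fixed space of smallest possible codimension among elements of nontrivial square. -/
structure IsCore (p : ℕ) [Fact p.Prime] (V : Type*) [AddCommGroup V] [Module (ZMod p) V]
    (H : Type*) [Group H] [DistribMulAction H V] (m : ℕ) (C : Submodule (ZMod p) V) : Prop where
  min : MinMove p V H m
  dim : Module.finrank (ZMod p) C + m = Module.finrank (ZMod p) V
  wit : ∃ g : H, g * g ≠ 1 ∧ C ≤ Fx p V g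

/-- The moved space attached to a core. -/
def plane (p : ℕ) [Fact p.Prime] (V : Type*) [AddCommGroup V] [Module (ZMod p) V]
    (H : Type*) [Group H] [DistribMulAction H V] (C : Submodule (ZMod p) V) :
    Submodule (ZMod p) V :=
  ⨆ k ∈ fix p V H C, Mv p V k

theorem Mv_le_plane {C : Submodule (ZMod p) V} {k : H} (hk : k ∈ fix p V H C) :
    Mv p V k ≤ plane p V H C :=
  le_iSup₂ (f := fun (j : H) (_ : j ∈ fix p V H C) => Mv p V j) k hk

namespace IsCore

variable {m : ℕ} {C : Submodule (ZMod p) V} (hC : IsCore p V H m C) (hB : Hyp p V H) (hp : p ≠ 2)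
variable [Finite V] [Finite H] [FaithfulSMul H V]
include hC hB hp

theorem disjoint_plane : Disjoint C (plane p V H C) := hB.disjoint_iSup_Mv hp C

/-- Two noncommuting roots in the stabiliser of a core. -/
theorem pair {e t : H} (he : IsRoot p V e) (ht : IsRoot p V t) (hec : e ∈ fix p V H C)
    (htc : t ∈ fix p V H C) (hnc : ¬ Commute e t) :
    Fx p V e ⊓ Fx p V t = C ∧ Disjoint (Mv p V e) (Mv p V t) ∧
      rk p V e + rk p V t = m ∧ Mv p V e ⊔ Mv p V t = plane p V H C := by
  have hg2 : e * t * (e * t) ≠ 1 := fun h => hnc (commute_of_sq he.sq ht.sq h)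
  have hm := hC.min _ hg2
  have hle : C ≤ Fx p V e ⊓ Fx p V t := le_inf (mem_fix_iff_le.1 hec) (mem_fix_iff_le.1 htc)
  have hfix : Fx p V e ⊓ Fx p V t ⊔ Mv p V e ⊓ Mv p V t ≤ Fx p V (e * t) := by
    refine sup_le (Fx_le_mul inf_le_left inf_le_right) fun x hx => ?_
    rw [mem_Fx, mul_smul, smul_eq_neg_of_mem_Mv ht.sq hx.2, smul_neg,
      smul_eq_neg_of_mem_Mv he.sq hx.1, neg_neg]
  have hd : Disjoint (Fx p V e ⊓ Fx p V t) (Mv p V e ⊓ Mv p V t) :=
    (hB.disjoint_Fx_Mv hp e).mono inf_le_left inf_le_left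
  have h1 := rk_le_of_le hfix
  have h2 := Submodule.finrank_sup_add_finrank_inf_eq (Fx p V e ⊓ Fx p V t) (Mv p V e ⊓ Mv p V t)
  rw [hd.eq_bot, finrank_bot] at h2
  have h3 := Submodule.finrank_mono hle
  have hdim := hC.dim
  have hCeq : C = Fx p V e ⊓ Fx p V t :=
    Submodule.eq_of_le_of_finrank_le hle (by omega)
  have hN : Mv p V e ⊓ Mv p V t = ⊥ := Submodule.finrank_eq_zero.1 (by omega)
  have hP : Mv p V e ⊔ Mv p V t ≤ plane p V H C := sup_le (Mv_le_plane hec) (Mv_le_plane htc)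
  have h4 := Submodule.finrank_sup_add_finrank_inf_eq (Mv p V e) (Mv p V t)
  rw [hN, finrank_bot] at h4
  have h5 := Submodule.finrank_sup_add_finrank_inf_eq C (plane p V H C)
  rw [(hC.disjoint_plane hB hp).eq_bot, finrank_bot] at h5
  have h6 := Submodule.finrank_le (C ⊔ plane p V H C)
  have h7 := Submodule.finrank_mono hP
  have h8 := Submodule.finrank_sup_add_finrank_inf_eq (Fx p V e) (Fx p V t)
  have h9 := Submodule.finrank_le (Fx p V e ⊔ Fx p V t)
  rw [← hCeq] at h8
  have h10 := rk_add (p := p) (V := V) e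
  have h11 := rk_add (p := p) (V := V) t
  simp only [rk] at *
  exact ⟨hCeq.symm, disjoint_iff.2 hN, by omega, Submodule.eq_of_le_of_finrank_le hP (by omega)⟩

theorem exists_root_fixing (x : V) :
    ∃ e : H, IsRoot p V e ∧ e ∈ fix p V H C ∧ e • x = x := by
  obtain ⟨g, hg2, hgC⟩ := hC.wit
  obtain ⟨k, hk, hk1, hkx⟩ := hB.exists_fixing (mem_fix_iff_le.2 hgC) hg2 x
  obtain ⟨e, he, hle⟩ := hB.exists_root hp hk1
  exact ⟨e, he, mem_fix_iff_le.2 ((mem_fix_iff_le.1 hk).trans hle), mem_Fx.1 (hle (mem_Fx.2 hkx))⟩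

theorem exists_pair : ∃ e t : H, IsRoot p V e ∧ IsRoot p V t ∧ e ∈ fix p V H C ∧
    t ∈ fix p V H C ∧ ¬ Commute e t := by
  haveI := Fintype.ofFinite H
  by_contra hc
  push Not at hc
  obtain ⟨x, hx⟩ := hB.exists_not_fixed hp
    (Finset.univ.filter fun e => IsRoot p V e ∧ e ∈ fix p V H C) (by simp +contextual)
    (fun e he t ht => by
      simp only [Finset.mem_filter, Finset.mem_univ, true_and] at he ht
      exact hc e t he.1 ht.1 he.2 ht.2)
  obtain ⟨e, he, heC, hex⟩ := hC.exists_root_fixing hB hp x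
  exact hx e (by simp [he, heC]) hex

theorem two_mul_rk {e t : H} (he : IsRoot p V e) (ht : IsRoot p V t) (hec : e ∈ fix p V H C)
    (htc : t ∈ fix p V H C) (hnc : ¬ Commute e t) : 2 * rk p V e = m := by
  have ha : ∀ e t : H, IsRoot p V e → IsRoot p V t → e ∈ fix p V H C → t ∈ fix p V H C →
      ¬ Commute e t → 2 * rk p V e ≤ m := by
    intro e t he ht hec htc hnc
    have hc' : t * e * t⁻¹ ∈ fix p V H C := mul_mem (mul_mem htc hec) (inv_mem htc)
    by_cases hcom : Commute e (t * e * t⁻¹)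
    · have hne : e ≠ t * e * t⁻¹ := fun h => hnc (by
        show e * t = t * e
        conv_lhs => rw [h]
        group)
      obtain ⟨h1, -⟩ := hB.Mv_le_Fx_of_commute hp he (he.conj t) hne hcom
      have hd : Disjoint (Mv p V (t * e * t⁻¹)) (Mv p V e) :=
        (hB.disjoint_Fx_Mv hp e).mono_left h1
      have h4 := Submodule.finrank_sup_add_finrank_inf_eq (Mv p V (t * e * t⁻¹)) (Mv p V e)
      rw [hd.eq_bot, finrank_bot] at h4
      have h5 := Submodule.finrank_sup_add_finrank_inf_eq C (plane p V H C)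
      rw [(hC.disjoint_plane hB hp).eq_bot, finrank_bot] at h5
      have h6 := Submodule.finrank_le (C ⊔ plane p V H C)
      have h7 := Submodule.finrank_mono (sup_le (Mv_le_plane hc') (Mv_le_plane hec))
      have h8 := rk_conj (p := p) (V := V) t e
      have hdim := hC.dim
      simp only [rk] at *
      omega
    · obtain ⟨-, -, h1, -⟩ := hC.pair hB hp he (he.conj t) hec hc' hcom
      rw [rk_conj] at h1
      omega
  have h1 := ha e t he ht hec htc hnc
  have h2 := ha t e ht he htc hec fun h => hnc h.symm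
  obtain ⟨-, -, h3, -⟩ := hC.pair hB hp he ht hec htc hnc
  omega

end IsCore

end Cfsg.Agent.BinAff
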