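import Cfsg.Agent.Lib.Perm.BinaryAffine.Data
import Cfsg.Agent.Lib.Perm.BinaryAffine.Odd
import Mathlib.FieldTheory.Finite.GaloisField
import Mathlib.RingTheory.LittleWedderburn
import Mathlib.RingTheory.Norm.Basic

/-!
A binary linear group with half-dimensional reflections as point stabilisers is the group of
norm-one semilinear maps of a quadratic field extension.
-/

set_option autoImplicit false

namespace Cfsg.Agent.BinAff

open scoped Classical

variable {p : ℕ} [Fact p.Prime] {V : Type*} [AddCommGroup V] [Module (ZMod p) V]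
variable {H : Type*} [Group H] [DistribMulAction H V]
variable [Finite V] [Finite H] [FaithfulSMul H V] {f : ℕ}

/-- Elements without nonzero fixed vectors, and the identity. -/
def IsRot (V : Type*) [AddCommGroup V] {H : Type*} [Group H] [DistribMulAction H V] (a : H) :
    Prop :=
  a = 1 ∨ ∀ x : V, a • x = x → x = 0

theorem eq_neg_of_isRot {a : H} (ha : IsRot V a) (h2 : a * a = 1) (h1 : a ≠ 1) (x : V) :
    a • x = -x := by
  refine eq_neg_of_add_eq_zero_left ((ha.resolve_left h1) _ ?_)
  rw [smul_add, smul_smul, h2, one_smul, add_comm]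

omit [Finite H] in
theorem op_mul (g h : H) : op p V (g * h) = op p V g * op p V h := by
  ext x
  simp [mul_smul]

omit [Finite H] in
theorem op_injective {g h : H} (e : op p V g = op p V h) : g = h :=
  FaithfulSMul.eq_of_smul_eq_smul (α := V) fun x => by
    rw [← op_apply (p := p), e, op_apply]

theorem op_one : op p V (1 : H) = 1 := by
  ext x
  simp

theorem lin_arith {p : ℕ} (hp : 2 ≤ p) {f d : ℕ} (h1 : f < d) (h2 : d ≤ 2 * f)
    (hdvd : p ^ f + 1 ∣ p ^ d - 1) : d = 2 * f := by
  obtain ⟨j, rfl⟩ := Nat.exists_eq_add_of_lt h1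
  by_contra hne
  have h3 : (p ^ f + 1) ∣ p ^ (j + 1) + 1 := by
    have hpos : 1 ≤ p ^ (f + j + 1) := Nat.one_le_pow _ _ (by omega)
    have h4 : p ^ (f + j + 1) - 1 + (p ^ (j + 1) + 1) = p ^ (j + 1) * (p ^ f + 1) := by
      rw [mul_add, mul_one, ← pow_add, show j + 1 + f = f + j + 1 by omega]
      omega
    exact (Nat.dvd_add_right hdvd).1 (h4 ▸ Dvd.intro_left _ rfl)
  have h5 : p ^ (j + 1) < p ^ f := Nat.pow_lt_pow_right (by omega) (by omega)
  have := Nat.le_of_dvd (by omega) h3
  omega

variable (hB : Hyp p V H) (hD : Dih p V H f)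
include hD

theorem Dih.stab_eq {r : H} (hr1 : r ≠ 1) {x : V} (hx : x ≠ 0) (hrx : r • x = x) :
    r * r = 1 ∧ ∀ h : H, h • x = x → h = 1 ∨ h = r := by
  obtain ⟨e, -, he2, -, hu⟩ := hD.stab x hx
  rcases hu r hrx with h | h
  · exact absurd h hr1
  · exact h ▸ ⟨he2, hu⟩

theorem Dih.exists_reflection : ∃ (r : H) (x : V), r ≠ 1 ∧ x ≠ 0 ∧ r • x = x := by
  obtain ⟨x, -, hx⟩ := Submodule.exists_mem_ne_zero_of_ne_bot
    (show (⊤ : Submodule (ZMod p) V) ≠ ⊥ from fun h => by
      have h1 := hD.dim
      rw [← finrank_top (R := ZMod p) (M := V), h, finrank_bot] at h1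
      have := hD.pos
      omega)
  obtain ⟨e, he1, -, hex, -⟩ := hD.stab x hx
  exact ⟨e, x, he1, hx, hex⟩

include hB

/-- Reflections invert rotations. -/
theorem Dih.inverts {r a : H} {x : V} (hr1 : r ≠ 1) (hx : x ≠ 0) (hrx : r • x = x)
    (ha : IsRot V a) : r * a * r⁻¹ = a⁻¹ := by
  obtain ⟨hr2, hu⟩ := hD.stab_eq hr1 hx hrx
  have hri : r⁻¹ = r := inv_eq_of_mul_eq_one_left hr2
  by_cases h1 : a = 1
  · simp [h1]
  by_cases ha2 : a * a = 1
  · have hneg := eq_neg_of_isRot ha ha2 h1
    rw [inv_eq_of_mul_eq_one_left ha2, hri]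
    refine FaithfulSMul.eq_of_smul_eq_smul (α := V) fun y => ?_
    rw [mul_smul, mul_smul, hneg, hneg, smul_neg, smul_smul, hr2, one_smul]
  obtain ⟨k, -, hk1, hk2⟩ := hB.inv (S := ⊥) (g := a)
    (mem_fix.2 fun s hs => by simp [(Submodule.mem_bot _).1 hs]) x
  have hka := hk2 a (Subgroup.mem_zpowers a)
  rcases hu k hk1 with rfl | rfl
  · rw [one_smul] at hka
    have h3 : (a * a) • x = x := by rw [mul_smul, hka, smul_inv_smul]
    rcases hu _ h3 with h | h
    · exact absurd h ha2
    · exact (hD.no4 a r h hr1 ⟨x, hx, hrx⟩).elim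
  · have h3 : (a * k * a) • x = x := by rw [mul_smul, mul_smul, hka, smul_inv_smul]
    rcases hu _ h3 with h | h
    · refine (hD.no4 a⁻¹ k ?_ hr1 ⟨x, hx, hrx⟩).elim
      rw [mul_eq_one_iff_eq_inv] at h
      calc a⁻¹ * a⁻¹ = a⁻¹ * (a * k) := by rw [h]
        _ = k := inv_mul_cancel_left a k
    · rw [hri]
      calc k * a * k = a⁻¹ * (a * k * a) * k := by group
        _ = a⁻¹ * (k * k) := by rw [h, mul_assoc]
        _ = a⁻¹ := by rw [hr2, mul_one]

/-- Rotations are closed under products and commute. -/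
theorem Dih.rot_mul {a b : H} (ha : IsRot V a) (hb : IsRot V b) :
    IsRot V (a * b) ∧ Commute a b := by
  have hrot : IsRot V (a * b) := by
    by_contra hab
    simp only [IsRot, not_or, not_forall] at hab
    obtain ⟨hab1, x, hxf, hx⟩ := hab
    obtain ⟨hs2, -⟩ := hD.stab_eq hab1 hx hxf
    have hsa := hD.inverts hB hab1 hx hxf ha
    have hsi : (a * b)⁻¹ = a * b := inv_eq_of_mul_eq_one_left hs2
    have h1 : a * b * a = b := by
      rw [mul_inv_rev] at hsa hsi
      calc a * b * a = a * b * a * (b⁻¹ * a⁻¹) * (a * b) := by group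
        _ = a⁻¹ * (a * b) := by rw [hsa]
        _ = b := inv_mul_cancel_left a b
    have hbb : b * b = 1 := by
      calc b * b = (a * b * a) * b := by rw [h1]
        _ = a * b * (a * b) := by group
        _ = 1 := hs2
    have haa : a * a = 1 := by
      have hsb := hD.inverts hB hab1 hx hxf hb
      rw [hsi] at hsb
      have hbi : b⁻¹ = b := inv_eq_of_mul_eq_one_left hbb
      rw [show a * b * b * (a * b) = a * (b * b) * a * b by group, hbb, mul_one, hbi,
        mul_eq_right] at hsb
      exact hsb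
    by_cases h3 : a = 1
    · subst h3
      rw [one_mul] at hab1 hxf
      exact hx ((hb.resolve_left hab1) x hxf)
    by_cases h4 : b = 1
    · subst h4
      rw [mul_one] at hab1 hxf
      exact hx ((ha.resolve_left hab1) x hxf)
    refine hab1 (FaithfulSMul.eq_of_smul_eq_smul (α := V) fun y => ?_)
    rw [mul_smul, eq_neg_of_isRot hb hbb h4, smul_neg, eq_neg_of_isRot ha haa h3, neg_neg,
      one_smul]
  refine ⟨hrot, ?_⟩
  obtain ⟨r, x, hr1, hx, hrx⟩ := hD.exists_reflection
  have h := hD.inverts hB hr1 hx hrx hrot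
  rw [show r * (a * b) * r⁻¹ = r * a * r⁻¹ * (r * b * r⁻¹) by group,
    hD.inverts hB hr1 hx hrx ha, hD.inverts hB hr1 hx hrx hb, ← mul_inv_rev, inv_inj] at h
  exact h.symm

/-- The rotations. -/
def Dih.rot : Subgroup H where
  carrier := {a | IsRot V a}
  one_mem' := Or.inl rfl
  mul_mem' ha hb := (hD.rot_mul hB ha hb).1
  inv_mem' {a} ha := ha.imp (fun h => by simp [h]) fun h x hx => h x (by
    nth_rewrite 1 [← hx]
    rw [smul_inv_smul])

theorem Dih.mem_rot {a : H} : a ∈ hD.rot hB ↔ IsRot V a := Iff.rfl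

/-- The rotations have index two. -/
theorem Dih.mem_or {r : H} {x : V} (hr1 : r ≠ 1) (hx : x ≠ 0) (hrx : r • x = x)
    (hex : ∃ g : H, g * g ≠ 1) (h : H) : IsRot V h ∨ IsRot V (h * r) := by
  by_contra hc
  simp only [IsRot, not_or, not_forall] at hc
  obtain ⟨⟨h1, y, hy, hy0⟩, h2, z, hz, hz0⟩ := hc
  obtain ⟨g, hg⟩ := hex
  have hgr : IsRot V g := by
    refine or_iff_not_imp_left.2 fun hg1 w hw => ?_
    by_contra hw0
    exact hg (hD.stab_eq hg1 hw0 hw).1
  have e1 := hD.inverts hB h2 hz0 hz hgr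
  have e2 : h * r * g * (h * r)⁻¹ = g := by
    rw [show h * r * g * (h * r)⁻¹ = h * (r * g * r⁻¹) * h⁻¹ by group,
      hD.inverts hB hr1 hx hrx hgr, ← conj_inv, hD.inverts hB h1 hy0 hy hgr, inv_inv]
  exact hg (mul_eq_one_iff_eq_inv.2 (e2.symm.trans e1))

theorem Dih.card_rot (hex : ∃ g : H, g * g ≠ 1) : Nat.card (hD.rot hB) = p ^ f + 1 := by
  haveI := Fintype.ofFinite H
  haveI := Fintype.ofFinite V
  obtain ⟨r, x, hr1, hx, hrx⟩ := hD.exists_reflection
  obtain ⟨hr2, -⟩ := hD.stab_eq hr1 hx hrx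
  let I : Finset H := Finset.univ.filter fun e => ¬ IsRot V e
  have hI : ∀ e ∈ I, e ≠ 1 ∧ ∃ y : V, y ≠ 0 ∧ e • y = y := by
    intro e he
    simp only [I, Finset.mem_filter, Finset.mem_univ, true_and, IsRot, not_or, not_forall] at he
    obtain ⟨h1, y, hy, hy0⟩ := he
    exact ⟨h1, y, hy0, hy⟩
  have hcard1 : Nat.card (hD.rot hB) = I.card := by
    rw [← Nat.card_eq_finsetCard]
    refine Nat.card_congr
      { toFun := fun a => ⟨(a : H) * r, by
          simp only [I, Finset.mem_filter, Finset.mem_univ, true_and]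
          intro h
          have := mul_mem (inv_mem a.2) (show (a : H) * r ∈ hD.rot hB from h)
          rw [inv_mul_cancel_left] at this
          exact hx ((this.resolve_left hr1) x hrx)⟩
        invFun := fun e => ⟨(e : H) * r, by
          have he := e.2
          simp only [I, Finset.mem_filter, Finset.mem_univ, true_and] at he
          exact (hD.mem_or hB hr1 hx hrx hex e).resolve_left he⟩
        left_inv := fun a => Subtype.ext (by simp [mul_assoc, hr2])
        right_inv := fun e => Subtype.ext (by simp [mul_assoc, hr2]) }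
  have hsum : I.card * (p ^ f - 1) = p ^ (2 * f) - 1 := by
    have heq : nz p V (⊤ : Submodule (ZMod p) V) = I.biUnion fun e => nz p V (Fx p V e) := by
      ext y
      simp only [Finset.mem_biUnion, mem_nz, Submodule.mem_top, true_and]
      constructor
      · intro hy
        obtain ⟨e, he1, -, hey, -⟩ := hD.stab y hy
        refine ⟨e, ?_, mem_Fx.2 hey, hy⟩
        simp only [I, Finset.mem_filter, Finset.mem_univ, true_and, IsRot, not_or, not_forall]
        exact ⟨he1, y, hey, hy⟩
      · rintro ⟨e, -, -, hy⟩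
        exact hy
    have hdj : (I : Set H).PairwiseDisjoint fun e => nz p V (Fx p V e) := by
      intro a ha b hb hab
      simp only [Function.onFun, Finset.disjoint_left, mem_nz]
      rintro y ⟨h1, hy0⟩ ⟨h2, -⟩
      obtain ⟨-, hu⟩ := hD.stab_eq (hI a ha).1 hy0 (mem_Fx.1 h1)
      exact hab (((hu b (mem_Fx.1 h2)).resolve_left (hI b hb).1)).symm
    have := card_nz (p := p) (⊤ : Submodule (ZMod p) V)
    rw [heq, Finset.card_biUnion hdj, Finset.sum_congr rfl (fun e he =>
      show (nz p V (Fx p V e)).card = p ^ f - 1 by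
        rw [card_nz, hD.fixdim e (hI e he).1 (hI e he).2]), Finset.sum_const, smul_eq_mul,
      finrank_top, hD.dim] at this
    exact this
  have hq : 1 < p ^ f := Nat.one_lt_pow hD.pos.ne' (Fact.out : p.Prime).one_lt
  rw [hcard1]
  refine Nat.eq_of_mul_eq_mul_right (by omega : 0 < p ^ f - 1) ?_
  rw [hsum, mul_comm 2 f, pow_mul, ← Nat.sq_sub_sq, one_pow]

theorem Dih.half_lt (hex : ∃ g : H, g * g ≠ 1) {W : Submodule (ZMod p) V}
    (hW : ∀ a ∈ hD.rot hB, ∀ x ∈ W, a • x ∈ W) (hne : W ≠ ⊥) :
    f < Module.finrank (ZMod p) W := by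
  obtain ⟨x, hx, hx0⟩ := Submodule.exists_mem_ne_zero_of_ne_bot hne
  have hinj : Function.Injective
      (fun a : hD.rot hB => (⟨(a : H) • x, hW a a.2 x hx⟩ : W)) := by
    intro a b hab
    have h : (a : H) • x = (b : H) • x := congrArg Subtype.val hab
    have hm := mul_mem (inv_mem b.2) a.2
    rcases (hD.mem_rot hB).1 hm with h1 | h1
    · exact Subtype.ext (inv_mul_eq_one.1 h1).symm
    · exact absurd (h1 x (by rw [mul_smul, h, inv_smul_smul])) hx0
  have h1 := Nat.card_le_card_of_injective _ hinj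
  rw [hD.card_rot hB hex, Module.natCard_eq_pow_finrank (K := ZMod p) (V := W), Nat.card_zmod] at h1
  by_contra h
  push Not at h
  have := Nat.pow_le_pow_right (Fact.out : p.Prime).pos h
  omega

/-- Identification with norm-one semilinear maps of a quadratic extension. -/
theorem Dih.exists_field (hex : ∃ g : H, g * g ≠ 1) :
    ∃ (F E : Type) (_ : Field F) (_ : Fintype F) (_ : Field E) (_ : Fintype E) (_ : Algebra F E)
      (ψ : V ≃+ E), Module.finrank F E = 2 ∧
      ∀ σ : V → V, (∃ g : H, ∀ x, g • x = σ x) ↔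
        ∃ (a : E) (φ : E ≃ₐ[F] E), Algebra.norm F a = 1 ∧ ∀ x, ψ (σ x) = a * φ (ψ x) := by
  have hp := (Fact.out : p.Prime)
  set A := hD.rot hB with hA
  let D : Subalgebra (ZMod p) (Module.End (ZMod p) V) :=
    Algebra.adjoin (ZMod p) ((fun a : H => op p V a) '' (A : Set H))
  have hgen : ∀ a ∈ A, op p V a ∈ D := fun a ha => Algebra.subset_adjoin ⟨a, ha, rfl⟩
  have hcA : ∀ a ∈ A, ∀ d ∈ D, Commute (op p V a) d := by
    intro a ha d hd
    induction hd using Algebra.adjoin_induction with
    | mem x hx =>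
      obtain ⟨b, hb, rfl⟩ := hx
      show op p V a * op p V b = op p V b * op p V a
      rw [← op_mul, ← op_mul, (hD.rot_mul hB ha hb).2.eq]
    | algebraMap c => exact (Algebra.commutes c _).symm
    | add x y _ _ hx hy => exact hx.add_right hy
    | mul x y _ _ hx hy => exact hx.mul_right hy
  have hcD : ∀ d ∈ D, ∀ d' ∈ D, Commute d d' := by
    intro d hd d' hd'
    induction hd using Algebra.adjoin_induction with
    | mem x hx =>
      obtain ⟨b, hb, rfl⟩ := hx
      exact hcA b hb d' hd'
    | algebraMap c => exact Algebra.commutes c _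
    | add x y _ _ hx hy => exact hx.add_left hy
    | mul x y _ _ hx hy => exact hx.mul_left hy
  letI instR : CommRing D :=
    { (inferInstance : Ring D) with mul_comm := fun a b => Subtype.ext (hcD a a.2 b b.2) }
  have hinj : ∀ d ∈ D, d ≠ 0 → ∀ x, d x = 0 → x = 0 := by
    intro d hd hd0 x hx
    by_contra hx0
    have hk : LinearMap.ker d ≠ ⊥ := fun h =>
      hx0 ((Submodule.mem_bot (ZMod p)).1 (h ▸ LinearMap.mem_ker.2 hx))
    have hr : LinearMap.range d ≠ ⊥ := fun h => hd0 (LinearMap.range_eq_bot.1 h)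
    have h1 := hD.half_lt hB hex (W := LinearMap.ker d) (fun a ha y hy => by
      rw [LinearMap.mem_ker, ← op_apply (p := p) a y, ← Module.End.mul_apply, ← (hcA a ha d hd).eq,
        Module.End.mul_apply, LinearMap.mem_ker.1 hy, map_zero]) hk
    have h2 := hD.half_lt hB hex (W := LinearMap.range d) (fun a ha y hy => by
      obtain ⟨v, rfl⟩ := hy
      exact ⟨a • v, by
        rw [← op_apply (p := p) a v, ← Module.End.mul_apply, ← (hcA a ha d hd).eq,
          Module.End.mul_apply, op_apply]⟩) hr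
    have h3 := LinearMap.finrank_range_add_finrank_ker d
    rw [hD.dim] at h3
    omega
  obtain ⟨r, x0, hr1, hx0, hrx⟩ := hD.exists_reflection
  let ev : D →ₗ[ZMod p] V := (LinearMap.applyₗ x0).comp D.val.toLinearMap
  have hev : ∀ d : D, ev d = d.1 x0 := fun d => rfl
  have hevinj : Function.Injective ev := by
    rw [injective_iff_map_eq_zero]
    intro d hd
    by_contra h
    exact hx0 (hinj d.1 d.2 (fun h' => h (Subtype.ext h')) x0 hd)
  haveI : Finite D := Finite.of_injective ev hevinj
  haveI : Nontrivial D := ⟨⟨0, 1, fun h => hx0 (by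
    have := congrArg (fun d : D => d.1 x0) h
    simpa using this.symm)⟩⟩
  haveI : NoZeroDivisors D := ⟨fun {a b} h => by
    by_contra hc
    push Not at hc
    refine hc.2 (Subtype.ext (LinearMap.ext fun y => ?_))
    exact hinj a.1 a.2 (fun h' => hc.1 (Subtype.ext h')) _ (congrArg (fun d : D => d.1 y) h)⟩
  haveI : IsDomain D := NoZeroDivisors.to_isDomain D
  letI instF : Field D := (Finite.isField_of_domain D).toField
  -- the rotations inside the units of `D`
  let u : A →* Dˣ := MonoidHom.toHomUnits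
    { toFun := fun a => (⟨op p V (a : H), hgen a a.2⟩ : D)
      map_one' := Subtype.ext op_one
      map_mul' := fun a b => Subtype.ext (op_mul (a : H) b) }
  have huv : ∀ a : A, ((u a : Dˣ) : D).1 = op p V (a : H) := fun a => rfl
  have huinj : Function.Injective u := fun a b h =>
    Subtype.ext (op_injective (p := p) (V := V) (by rw [← huv a, ← huv b, h]))
  have hdvd : p ^ f + 1 ∣ Nat.card D - 1 := by
    rw [← hD.card_rot hB hex, ← Nat.card_units D]
    exact Subgroup.card_dvd_of_injective u huinj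
  have hdim : Module.finrank (ZMod p) D = 2 * f := by
    refine lin_arith hp.two_le ?_ ?_ ?_
    · rw [← LinearMap.finrank_range_of_inj hevinj]
      refine hD.half_lt hB hex (fun a ha y hy => ?_) fun h => ?_
      · obtain ⟨d, rfl⟩ := hy
        exact ⟨⟨op p V a, hgen a ha⟩ * d, rfl⟩
      · refine hx0 ((Submodule.mem_bot (ZMod p)).1 (h ▸ ⟨1, ?_⟩))
        simp [hev]
    · rw [← hD.dim]
      exact LinearMap.finrank_le_finrank_of_injective hevinj
    · rwa [Module.natCard_eq_pow_finrank (K := ZMod p) (V := D), Nat.card_zmod] at hdvd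
  have hevbij : Function.Bijective ev :=
    ⟨hevinj, (LinearMap.injective_iff_surjective_of_finrank_eq_finrank (by rw [hdim, hD.dim])).1 hevinj⟩
  -- the fields
  have hf := hD.pos.ne'
  haveI : Fintype (GaloisField p f) := Fintype.ofFinite _
  haveI : Fintype (GaloisField p (2 * f)) := Fintype.ofFinite _
  haveI : Fintype D := Fintype.ofFinite D
  obtain ⟨ι⟩ := FiniteField.nonempty_algHom_of_finrank_dvd (F := ZMod p) (K := GaloisField p f)
    (L := GaloisField p (2 * f))
    (by rw [GaloisField.finrank p hf, GaloisField.finrank p (by omega)]; exact dvd_mul_left f 2)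
  letI : Algebra (GaloisField p f) (GaloisField p (2 * f)) := ι.toRingHom.toAlgebra
  have hE : D ≃+* GaloisField p (2 * f) := FiniteField.ringEquivOfCardEq (by
    rw [← Nat.card_eq_fintype_card, ← Nat.card_eq_fintype_card, GaloisField.card p _ (by omega),
      Module.natCard_eq_pow_finrank (K := ZMod p) (V := D), Nat.card_zmod, hdim])
  let ψ : V ≃+ GaloisField p (2 * f) :=
    (LinearEquiv.ofBijective ev hevbij).symm.toAddEquiv.trans hE.toAddEquiv
  have hψ : ∀ d : D, ψ (d.1 x0) = hE d := fun d => by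
    show hE ((LinearEquiv.ofBijective ev hevbij).symm (ev d)) = hE d
    rw [LinearEquiv.ofBijective_symm_apply_apply]
  have hψ' : ∀ y, ∃ d : D, d.1 x0 = y ∧ ψ y = hE d := fun y => by
    obtain ⟨d, rfl⟩ := hevbij.2 y
    exact ⟨d, rfl, hψ d⟩
  have hrank : Module.finrank (GaloisField p f) (GaloisField p (2 * f)) = 2 := by
    have h1 := Module.natCard_eq_pow_finrank (K := GaloisField p f) (V := GaloisField p (2 * f))
    rw [GaloisField.card p _ hf, GaloisField.card p _ (by omega), ← pow_mul] at h1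
    have h2 := Nat.pow_right_injective hp.two_le h1
    exact (Nat.eq_of_mul_eq_mul_left hD.pos ((mul_comm f 2).trans h2)).symm
  have hnorm : ∀ a : GaloisField p (2 * f),
      Algebra.norm (GaloisField p f) a = 1 ↔ a ^ (p ^ f + 1) = 1 := by
    intro a
    rw [← (algebraMap (GaloisField p f) (GaloisField p (2 * f))).injective.eq_iff, map_one,
      FiniteField.algebraMap_norm_eq_pow, GaloisField.card p _ (by omega),
      GaloisField.card p _ hf, show p ^ (2 * f) = (p ^ f) ^ 2 by rw [← pow_mul, mul_comm],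
      show ((p ^ f) ^ 2 - 1) / (p ^ f - 1) = p ^ f + 1 from ?_]
    have hq : 1 < p ^ f := Nat.one_lt_pow hf hp.one_lt
    rw [show (p ^ f) ^ 2 - 1 = (p ^ f + 1) * (p ^ f - 1) by
      rw [← Nat.sq_sub_sq, one_pow], Nat.mul_div_cancel _ (by omega)]
  -- every norm one element comes from a rotation
  let v : A → GaloisField p (2 * f) := fun a => hE (u a : D)
  have hv1 : ∀ a, v a ^ (p ^ f + 1) = 1 := fun a => by
    rw [← map_pow, ← Units.val_pow_eq_pow_val, ← map_pow, ← hD.card_rot hB hex, pow_card_eq_one',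
      map_one, Units.val_one, map_one]
  have hvinj : Function.Injective v := fun a b h => huinj (Units.ext (hE.injective h))
  have hvsur : ∀ c, c ^ (p ^ f + 1) = 1 → ∃ a, v a = c := by
    intro c hc
    haveI := Fintype.ofFinite A
    let T := (Polynomial.nthRoots (p ^ f + 1) (1 : GaloisField p (2 * f))).toFinset
    have hsub : Finset.univ.image v ⊆ T := fun c hc => by
      obtain ⟨a, -, rfl⟩ := Finset.mem_image.1 hc
      exact Multiset.mem_toFinset.2 ((Polynomial.mem_nthRoots (by omega)).2 (hv1 a))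
    have hle : T.card ≤ (Finset.univ.image v).card := by
      rw [Finset.card_image_of_injective _ hvinj, Finset.card_univ, ← Nat.card_eq_fintype_card,
        hD.card_rot hB hex]
      exact (Multiset.toFinset_card_le _).trans (Polynomial.card_nthRoots _ _)
    have : c ∈ T := Multiset.mem_toFinset.2 ((Polynomial.mem_nthRoots (by omega)).2 hc)
    rw [← Finset.eq_of_subset_of_card_le hsub hle] at this
    obtain ⟨a, -, ha⟩ := Finset.mem_image.1 this
    exact ⟨a, ha⟩
  have hrotψ : ∀ (a : A) (y : V), ψ ((a : H) • y) = v a * ψ y := by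
    intro a y
    obtain ⟨d, rfl, hd⟩ := hψ' y
    rw [hd, ← map_mul, ← hψ]
    rfl
  -- the reflection is the Frobenius
  haveI hcp : CharP D p := charP_of_injective_algebraMap (algebraMap (ZMod p) D).injective p
  have hconj : ∀ d ∈ D, op p V r * d = d ^ (p ^ f) * op p V r := by
    intro d hd
    induction hd using Algebra.adjoin_induction with
    | mem x hx =>
      obtain ⟨b, hb, rfl⟩ := hx
      have h1 : b ^ (p ^ f + 1) = 1 := by
        have := pow_card_eq_one' (x := (⟨b, hb⟩ : A))
        rw [hD.card_rot hB hex] at this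
        exact congrArg Subtype.val this
      have hop : ∀ n : ℕ, op p V b ^ n = op p V (b ^ n) := by
        intro n
        induction n with
        | zero => simp [op_one]
        | succ n ih => rw [pow_succ, ih, ← op_mul, ← pow_succ]
      show op p V r * op p V b = op p V b ^ (p ^ f) * op p V r
      rw [hop, ← op_mul, ← op_mul]
      congr 1
      rw [show b ^ (p ^ f) = b⁻¹ from eq_inv_of_mul_eq_one_left (by rw [← pow_succ, h1]),
        ← hD.inverts hB hr1 hx0 hrx hb, inv_mul_cancel_right]
    | algebraMap c =>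
      rw [← map_pow, ZMod.pow_card_pow, Algebra.commutes]
    | add x y hx' hy' hx hy =>
      have h := congrArg Subtype.val (add_pow_char_pow (⟨x, hx'⟩ : D) ⟨y, hy'⟩ p f)
      simp only [AddMemClass.coe_add, SubmonoidClass.coe_pow] at h
      rw [mul_add, hx, hy, h, add_mul]
    | mul x y hx' hy' hx hy =>
      rw [(hcD x hx' y hy').mul_pow, ← mul_assoc, hx, mul_assoc, hy, ← mul_assoc]
  let φ : GaloisField p (2 * f) ≃ₐ[GaloisField p f] GaloisField p (2 * f) :=
    FiniteField.frobeniusAlgEquivOfAlgebraic (GaloisField p f) (GaloisField p (2 * f))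
  have hφ : ∀ z, φ z = z ^ (p ^ f) := fun z => by
    rw [show φ z = (fun x => x ^ Fintype.card (GaloisField p f)) z from
      congrFun (FiniteField.coe_frobeniusAlgEquivOfAlgebraic _ _) z, ← Nat.card_eq_fintype_card,
      GaloisField.card p _ hf]
  have hrψ : ∀ y : V, ψ (r • y) = φ (ψ y) := by
    intro y
    obtain ⟨d, rfl, hd⟩ := hψ' y
    rw [hd, hφ, ← map_pow, ← hψ, ← op_apply (p := p) r, ← Module.End.mul_apply, hconj _ d.2,
      Module.End.mul_apply, op_apply, hrx]
    rfl
  have haut : ∀ φ' : GaloisField p (2 * f) ≃ₐ[GaloisField p f] GaloisField p (2 * f),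
      φ' = 1 ∨ φ' = φ := by
    intro φ'
    obtain ⟨⟨i, hi⟩, hi'⟩ := (FiniteField.bijective_frobeniusAlgEquivOfAlgebraic_pow
      (GaloisField p f) (GaloisField p (2 * f))).2 φ'
    rw [hrank] at hi
    simp only at hi'
    interval_cases i
    · left; rw [← hi', pow_zero]
    · right; rw [← hi', pow_one]
  refine ⟨GaloisField p f, GaloisField p (2 * f), inferInstance, inferInstance, inferInstance,
    inferInstance, inferInstance, ψ, hrank, fun σ => ⟨?_, ?_⟩⟩
  · rintro ⟨g, hg⟩
    rcases hD.mem_or hB hr1 hx0 hrx hex g with h | h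
    · refine ⟨v ⟨g, h⟩, 1, (hnorm _).2 (hv1 _), fun y => ?_⟩
      rw [← hg]
      exact hrotψ ⟨g, h⟩ y
    · refine ⟨v ⟨g * r, h⟩, φ, (hnorm _).2 (hv1 _), fun y => ?_⟩
      rw [← hrψ, ← hg]
      have h2 : (g * r) • (r • y) = g • y := by
        rw [smul_smul, mul_assoc, (hD.stab_eq hr1 hx0 hrx).1, mul_one]
      rw [← h2]
      exact hrotψ ⟨g * r, h⟩ (r • y)
  · rintro ⟨a, φ', ha, hσ⟩
    obtain ⟨c, rfl⟩ := hvsur a ((hnorm a).1 ha)
    rcases haut φ' with rfl | rfl
    · exact ⟨c, fun y => ψ.injective (by rw [hσ, hrotψ, AlgEquiv.one_apply])⟩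
    · exact ⟨(c : H) * r, fun y => ψ.injective (by rw [hσ, mul_smul, hrotψ, hrψ])⟩

end Cfsg.Agent.BinAff
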