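import Cfsg.Agent.Lib.Perm.BinaryAffine.OddPlane

/-!
Binary linear groups in odd characteristic: no proper block decomposition, so point
stabilisers have order two and the space is a plane over the field with `p ^ f` elements.
-/

set_option autoImplicit false

namespace Cfsg.Agent.BinAff

variable {p : ℕ} [Fact p.Prime] {V : Type*} [AddCommGroup V] [Module (ZMod p) V]
variable {H : Type*} [Group H] [DistribMulAction H V]
variable [Finite V] [Finite H] [FaithfulSMul H V] {f : ℕ} {C : Submodule (ZMod p) V}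
variable (hB : Hyp p V H) (hp : p ≠ 2) (hC : IsCore p V H (2 * f) C)
include hB hp hC

theorem core_eq_bot : C = ⊥ := by
  by_contra hC0
  obtain ⟨e, t, he0, ht0, hec, htc, hnc⟩ := hC.exists_pair hB hp
  have he := root_size hB hp hC he0 hec
  have ht := root_size hB hp hC ht0 htc
  obtain ⟨hFx, -, -, hsup⟩ := hC.pair hB hp he0 ht0 hec htc hnc
  have hdisj := hC.disjoint_plane hB hp
  have htype : ∀ h u v : H, IsHalf p V f u → IsHalf p V f v → ¬ Commute u v →
      h * u * h⁻¹ ∈ fix p V H C → h * v * h⁻¹ ∈ fix p V H C := by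
    intro h u v hu hv huv hmem
    by_contra hout
    exact huv ((Commute.conj_iff h).1
      (commute_of_not_mem hB hp hC (hv.conj h) hout (hu.conj h) hmem)).symm
  have hblock : ∀ h : H, (∀ x ∈ plane p V H C, h • x ∈ plane p V H C) ∨
      (∀ x ∈ plane p V H C, h • x ∈ C) := by
    intro h
    have hout : ∀ u : H, IsHalf p V f u → h * u * h⁻¹ ∉ fix p V H C →
        Mv p V (h * u * h⁻¹) ≤ C := by
      intro u hu hu'
      rw [← hFx]
      refine le_inf ?_ ?_
      · exact (hB.Mv_le_Fx_of_commute hp he0 (hu.conj h).1 (fun hh => hu' (hh ▸ hec))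
          (commute_of_not_mem hB hp hC (hu.conj h) hu' he hec).symm).1
      · exact (hB.Mv_le_Fx_of_commute hp ht0 (hu.conj h).1 (fun hh => hu' (hh ▸ htc))
          (commute_of_not_mem hB hp hC (hu.conj h) hu' ht htc).symm).1
    by_cases hmem : h * e * h⁻¹ ∈ fix p V H C
    · refine Or.inl fun x hx => ?_
      rw [← hsup, Submodule.mem_sup] at hx
      obtain ⟨a, ha, b, hb, rfl⟩ := hx
      rw [smul_add]
      exact Submodule.add_mem _ (Mv_le_plane hmem (mem_Mv_conj.2 ha))
        (Mv_le_plane (htype h e t he ht hnc hmem) (mem_Mv_conj.2 hb))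
    · have hmem' : h * t * h⁻¹ ∉ fix p V H C := fun hh =>
        hmem (htype h t e ht he (fun hc => hnc hc.symm) hh)
      refine Or.inr fun x hx => ?_
      rw [← hsup, Submodule.mem_sup] at hx
      obtain ⟨a, ha, b, hb, rfl⟩ := hx
      rw [smul_add]
      exact Submodule.add_mem _ (hout e he hmem (mem_Mv_conj.2 ha))
        (hout t ht hmem' (mem_Mv_conj.2 hb))
  obtain ⟨h, hh⟩ : ∃ h : H, h * e * h⁻¹ ∉ fix p V H C := by
    by_contra hall
    push Not at hall
    rcases hB.irr (plane p V H C) (fun h x hx => by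
      rw [← hsup, Submodule.mem_sup] at hx
      obtain ⟨a, ha, b, hb, rfl⟩ := hx
      rw [smul_add]
      exact Submodule.add_mem _ (Mv_le_plane (hall h) (mem_Mv_conj.2 ha))
        (Mv_le_plane (htype h e t he ht hnc (hall h)) (mem_Mv_conj.2 hb))) with h1 | h1
    · exact he0.1 (Mv_eq_bot_iff.1 (eq_bot_iff.2 (h1 ▸ Mv_le_plane hec)))
    · exact hC0 (by rw [← inf_top_eq C, ← h1]; exact hdisj.eq_bot)
  have hh' : h * t * h⁻¹ ∉ fix p V H C := fun hh'' =>
    hh (htype h t e ht he (fun hc => hnc hc.symm) hh'')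
  set g := e * t with hg
  have hgK : g ∈ fix p V H C := mul_mem hec htc
  have hg' : ∀ x ∈ plane p V H C, (h * g * h⁻¹) • x = x := by
    have key : ∀ u : H, IsHalf p V f u → h * u * h⁻¹ ∉ fix p V H C →
        plane p V H C ≤ Fx p V (h * u * h⁻¹) := by
      intro u hu hu'
      rw [← hsup]
      exact sup_le
        (hB.Mv_le_Fx_of_commute hp (hu.conj h).1 he0 (fun hh => hu' (hh ▸ hec))
          (commute_of_not_mem hB hp hC (hu.conj h) hu' he hec)).1
        (hB.Mv_le_Fx_of_commute hp (hu.conj h).1 ht0 (fun hh => hu' (hh ▸ htc))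
          (commute_of_not_mem hB hp hC (hu.conj h) hu' ht htc)).1
    intro x hx
    rw [hg, show h * (e * t) * h⁻¹ = h * e * h⁻¹ * (h * t * h⁻¹) by group, mul_smul,
      mem_Fx.1 (key t ht hh' hx), mem_Fx.1 (key e he hh hx)]
  have hhP : ∀ x ∈ plane p V H C, h • x ∈ C := by
    rcases hblock h with h1 | h1
    · exfalso
      obtain ⟨m, hm, hm0⟩ := Submodule.exists_mem_ne_zero_of_ne_bot
        (show Mv p V e ≠ ⊥ from fun hb => he0.1 (Mv_eq_bot_iff.1 hb))
      refine hm0 (smul_eq_zero_iff_eq h |>.1 (Submodule.disjoint_def.1 hdisj (h • m) ?_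
        (h1 m (Mv_le_plane hec hm))))
      have := mem_Mv_conj (h := h) |>.2 hm
      rw [← hFx]
      exact ⟨(hB.Mv_le_Fx_of_commute hp he0 (he.conj h).1 (fun e' => hh (e' ▸ hec))
          (commute_of_not_mem hB hp hC (he.conj h) hh he hec).symm).1 this,
        (hB.Mv_le_Fx_of_commute hp ht0 (he.conj h).1 (fun e' => hh (e' ▸ htc))
          (commute_of_not_mem hB hp hC (he.conj h) hh ht htc).symm).1 this⟩
    · exact h1
  obtain ⟨a, ha, ha1, ha2⟩ : ∃ a ∈ plane p V H C, g • a ≠ a ∧ g • a ≠ -a := by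
    by_contra hall
    push Not at hall
    refine hnc (commute_of_sq he0.sq ht0.sq (ext_of_spans (sup_plane hB hp hC).1
      (Fx_le_mul (mem_fix_iff_le.1 hgK) (mem_fix_iff_le.1 hgK)) fun x hx => ?_))
    rw [mem_Fx, mul_smul, ← hg]
    rcases eq_or_ne (g • x) x with h1 | h1
    · rw [h1, h1]
    · rw [hall x hx h1, smul_neg, hall x hx h1, neg_neg]
  have hZP : ∀ c ∈ Subgroup.zpowers g, c • a ∈ plane p V H C := fun c hc =>
    smul_mem_plane hB hp hC (Subgroup.zpowers_le.2 hgK hc) ha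
  have hc1 : ∀ c ∈ Subgroup.zpowers g, ∀ x ∈ plane p V H C, (h * c * h⁻¹) • x = x := by
    intro c hc x hx
    obtain ⟨i, rfl⟩ := Subgroup.mem_zpowers_iff.1 hc
    rw [← conj_zpow]
    exact MulAction.mem_stabilizer_iff.1 (zpow_mem (MulAction.mem_stabilizer_iff.2 (hg' x hx)) i)
  obtain ⟨k0, -, hk01, hk02⟩ := hB.swap (S := ⊥) (g := h)
    (mem_fix.2 fun s hs => by simp [(Submodule.mem_bot _).1 hs]) a
  let R : Set (V × V) := (fun c : H => (c • a, h • c • a)) '' (Subgroup.zpowers g : Set H) ∪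
    (fun c : H => (h • c • a, c • a)) '' (Subgroup.zpowers g : Set H)
  have hfixC : ∀ c ∈ Subgroup.zpowers g, ∀ x ∈ plane p V H C, c • (h • x) = h • x :=
    fun c hc x hx => mem_fix.1 (Subgroup.zpowers_le.2 hgK hc) _ (hhP x hx)
  have hL : ∀ c ∈ Subgroup.zpowers g, ∀ d ∈ Subgroup.zpowers g,
      (c * (h * d * h⁻¹)) • (a - h • a) = c • a - h • d • a ∧
      (d * (h * c * h⁻¹)) • (h • a - a) = h • c • a - d • a := by
    intro c hc d hd
    constructor
    · rw [mul_smul, smul_sub (h * d * h⁻¹), hc1 d hd a ha, mul_smul (h * d), inv_smul_smul,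
        mul_smul, smul_sub, hfixC c hc _ (hZP d hd)]
    · rw [mul_smul, smul_sub (h * c * h⁻¹), hc1 c hc a ha, mul_smul (h * c), inv_smul_smul,
        mul_smul, smul_sub, hfixC d hd _ (hZP c hc)]
  have hcross : ∀ c ∈ Subgroup.zpowers g, ∀ d ∈ Subgroup.zpowers g,
      ∃ k : H, k • (c • a - h • d • a) = h • c • a - d • a := by
    intro c hc d hd
    refine ⟨d * (h * c * h⁻¹) * k0 * (c * (h * d * h⁻¹))⁻¹, ?_⟩
    obtain ⟨h1, h2⟩ := hL c hc d hd
    rw [← h1, mul_smul, inv_smul_smul, mul_smul, smul_sub k0, hk01, hk02, h2]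
  obtain ⟨k, hk⟩ := hB.bin R (by
    rintro x (⟨c, -, rfl⟩ | ⟨c, -, rfl⟩)
    · exact ⟨h, rfl⟩
    · exact ⟨h⁻¹, inv_smul_smul h _⟩) (by
    rintro x (⟨c, hc, rfl⟩ | ⟨c, hc, rfl⟩) y (⟨d, hd, rfl⟩ | ⟨d, hd, rfl⟩)
    · exact ⟨h, smul_sub _ _ _⟩
    · exact hcross c hc d hd
    · obtain ⟨k, hk⟩ := hcross d hd c hc
      exact ⟨k, by rw [← neg_sub, smul_neg, hk, neg_sub]⟩
    · exact ⟨h⁻¹, by rw [← smul_sub, inv_smul_smul]⟩)
  have hka : k • a = h • a := by simpa using hk _ (Or.inl ⟨1, one_mem _, rfl⟩)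
  have hka' : k • h • a = a := by simpa using hk _ (Or.inr ⟨1, one_mem _, rfl⟩)
  have hkb : k • g • a = h • g • a := hk _ (Or.inl ⟨g, Subgroup.mem_zpowers g, rfl⟩)
  have hkb' : k • h • g • a = g • a := hk _ (Or.inr ⟨g, Subgroup.mem_zpowers g, rfl⟩)
  have hG : (g * (h * g * h⁻¹)) • (a - h • a) = g • a - h • g • a :=
    (hL g (Subgroup.mem_zpowers g) g (Subgroup.mem_zpowers g)).1
  obtain ⟨l, hl, hl1, hl2⟩ := hB.flip (e := k) (g := g * (h * g * h⁻¹)) (a := a - h • a)
    (by rw [smul_sub, hka, hka', neg_sub]) (by rw [hG, smul_sub, hkb, hkb', neg_sub])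
  rw [hG] at hl1 hl2
  have hlv : l • (a - h • a) = g • a - h • g • a := by
    have h12 : l • (a - h • a + (g • a - h • g • a)) + l • (a - h • a - (g • a - h • g • a)) =
        (g • a - h • g • a) + (g • a - h • g • a) := by rw [hl1, hl2]; abel
    rw [← smul_add, show a - h • a + (g • a - h • g • a) + (a - h • a - (g • a - h • g • a)) =
      (a - h • a) + (a - h • a) by abel, smul_add] at h12
    refine sub_eq_zero.1 (self_add_eq_zero hp ?_)
    rw [show l • (a - h • a) - (g • a - h • g • a) + (l • (a - h • a) - (g • a - h • g • a)) =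
      l • (a - h • a) + l • (a - h • a) - ((g • a - h • g • a) + (g • a - h • g • a)) by abel,
      h12, sub_self]
  have hlc : l • (a + h • a) = a + h • a :=
    mem_fix.1 hl _ (mem_Fx.2 (by rw [smul_add, hka, hka', add_comm]))
  have himg : l • (a + a) = g • a + a + (h • a - h • g • a) := by
    rw [show a + a = (a - h • a) + (a + h • a) by abel, smul_add, hlv, hlc]; abel
  have hz : h • a - h • g • a ∈ C :=
    Submodule.sub_mem _ (hhP a ha) (hhP _ (hZP g (Subgroup.mem_zpowers g)))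
  have hw : g • a + a ∈ plane p V H C :=
    Submodule.add_mem _ (hZP g (Subgroup.mem_zpowers g)) ha
  rcases hblock l with hl' | hl'
  · have h1 := hl' (a + a) (Submodule.add_mem _ ha ha)
    rw [himg] at h1
    have h2 := Submodule.disjoint_def.1 hdisj _ hz
      (by simpa using Submodule.sub_mem _ h1 hw)
    rw [← smul_sub, smul_eq_zero_iff_eq, sub_eq_zero] at h2
    exact ha1 h2.symm
  · have h1 := hl' (a + a) (Submodule.add_mem _ ha ha)
    rw [himg] at h1
    have h2 := Submodule.disjoint_def.1 hdisj _ (by simpa using Submodule.sub_mem _ h1 hz) hw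
    exact ha2 (eq_neg_of_add_eq_zero_left h2)

/-- The conclusion in odd characteristic. -/
theorem dih_of_core (hf : 0 < f) : Dih p V H f := by
  obtain rfl := core_eq_bot hB hp hC
  have hall : ∀ g : H, g ∈ fix p V H (⊥ : Submodule (ZMod p) V) := fun g =>
    mem_fix.2 fun x hx => by simp [(Submodule.mem_bot _).1 hx]
  have hP : plane p V H (⊥ : Submodule (ZMod p) V) = ⊤ := by
    have := (sup_plane hB hp hC).1
    rwa [bot_sup_eq] at this
  have hn : Module.finrank (ZMod p) V = 2 * f := by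
    have := hC.dim
    rw [finrank_bot] at this
    omega
  have hst : ∀ x : V, x ≠ 0 → ∃ e : H, IsHalf p V f e ∧ e • x = x ∧
      ∀ h : H, h • x = x → h = 1 ∨ h = e := by
    intro x hx
    obtain ⟨e, he0, -, hex⟩ := hC.exists_root_fixing hB hp x
    have he := root_size hB hp hC he0 (hall e)
    obtain ⟨e', he', -, hxe'⟩ := exists_moved hB hp hC (hP ▸ Submodule.mem_top : x ∈ plane p V H ⊥)
    have hee' := commute_of_fixed_moved hB hp hC.min he' hx hxe' hex
    have hne : e ≠ e' := by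
      rintro rfl
      exact hx (Submodule.disjoint_def.1 (hB.disjoint_Fx_Mv hp e) x (mem_Fx.2 hex) hxe')
    refine ⟨e, he, hex, fun h hhx => ?_⟩
    have hhx' : h⁻¹ • x = x := by
      nth_rewrite 1 [← hhx]
      rw [inv_smul_smul]
    have hc1 : Commute h e := by
      have h1 : (h * e * h⁻¹) • x = x := by rw [mul_smul, mul_smul, hhx', hex, hhx]
      exact (eq_mul_inv_iff_mul_eq.1 (eq_of_fixed hB hp hC he (hall e) (he.conj h) (hall _) hx
        (hP ▸ Submodule.mem_top) hex h1)).symm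
    have hc2 : Commute h e' := commute_of_fixed_moved hB hp hC.min he' hx hxe' hhx
    have hspan : Mv p V e ⊔ Mv p V e' = ⊤ :=
      (sup_Mv_eq hB hp hC he (hall e) he' (hall e') hne).trans hP
    have hplus : ∀ m ∈ Mv p V e', h • m = m := by
      rcases he'.1.comm_sign hB hp hc2 with h1 | h1
      · exact h1
      · exfalso
        have h2 := h1 x hxe'
        rw [hhx, eq_neg_iff_add_eq_zero] at h2
        exact hx (self_add_eq_zero hp h2)
    rcases he0.comm_sign hB hp hc1 with h1 | h1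
    · exact Or.inl (ext_of_spans hspan (fun m hm => mem_Fx.2 (h1 m hm))
        fun m hm => mem_Fx.2 (hplus m hm))
    · refine Or.inr ?_
      have h2 : e * h = 1 := ext_of_spans hspan
        (fun m hm => mem_Fx.2 (by
          rw [mul_smul, h1 m hm, smul_neg, smul_eq_neg_of_mem_Mv he0.sq hm, neg_neg]))
        (fun m hm => mem_Fx.2 (by
          rw [mul_smul, hplus m hm,
            mem_Fx.1 ((hB.Mv_le_Fx_of_commute hp he0 he'.1 hne hee').1 hm)]))
      rw [eq_inv_of_mul_eq_one_right h2, inv_eq_of_mul_eq_one_left he0.sq]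
  have hid : ∀ e : H, e ≠ 1 → (∃ x : V, x ≠ 0 ∧ e • x = x) → IsHalf p V f e := by
    rintro e he ⟨x, hx, hex⟩
    obtain ⟨r, hr, -, hu⟩ := hst x hx
    rcases hu e hex with h1 | h1
    · exact absurd h1 he
    · exact h1 ▸ hr
  refine ⟨hf, hn, fun x hx => ?_, fun e he hx => ?_, fun g e hge he hx => ?_⟩
  · obtain ⟨e, he, hex, hu⟩ := hst x hx
    exact ⟨e, he.1.1, he.1.sq, hex, hu⟩
  · have h1 := rk_add (p := p) (V := V) e
    rw [(hid e he hx).2, hn] at h1
    omega
  · have hh := (hid e he hx).1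
    have hc : Commute g e := hge ▸ (Commute.refl g).mul_right (Commute.refl g)
    obtain ⟨m, hm, hm0⟩ := Submodule.exists_mem_ne_zero_of_ne_bot
      (show Mv p V e ≠ ⊥ from fun hb => hh.1 (Mv_eq_bot_iff.1 hb))
    have h2 : e • m = m := by
      rw [← hge, mul_smul]
      rcases hh.comm_sign hB hp hc with h1 | h1
      · rw [h1 m hm, h1 m hm]
      · rw [h1 m hm, smul_neg, h1 m hm, neg_neg]
    rw [smul_eq_neg_of_mem_Mv hh.sq hm, neg_eq_iff_add_eq_zero] at h2
    exact hm0 (self_add_eq_zero hp h2)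

end Cfsg.Agent.BinAff
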