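import Cfsg.Agent.Lib.Perm.BinaryAffine.TwoLine
import Cfsg.Agent.Lib.Perm.BinaryAffine.Data

/-!
Binary linear groups in characteristic two: no involution outside a line fails to commute
with the line, and there is no block decomposition; hence point stabilisers have order two.
-/

set_option autoImplicit false

namespace Cfsg.Agent.BinAff

variable {V : Type*} [AddCommGroup V] [Module (ZMod 2) V]
variable {H : Type*} [Group H] [DistribMulAction H V]
variable [Finite V] [Finite H] [FaithfulSMul H V] {f : ℕ} {C P : Submodule (ZMod 2) V}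

theorem IsInv.conj {e : H} (he : IsInv V f e) (h : H) : IsInv V f (h * e * h⁻¹) :=
  ⟨fun hc => he.1 (conj_eq_one_iff.1 hc), by
    rw [show h * e * h⁻¹ * (h * e * h⁻¹) = h * (e * e) * h⁻¹ by group, he.2.1, mul_one,
      mul_inv_cancel], by rw [rk_conj, he.2.2]⟩

theorem IsInv.exists_mem_ne {e : H} (he : IsInv V f e) : ∃ m ∈ Mv 2 V e, m ≠ 0 :=
  Submodule.exists_mem_ne_zero_of_ne_bot fun h => he.1 (Mv_eq_bot_iff.1 h)

variable (hB : Hyp 2 V H) (hf : 0 < f) (hmin : ∀ g : H, g * g ≠ 1 → 2 * f ≤ rk 2 V g)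
variable (hL : IsLine V H f C P)
include hB hf hmin

/-- Noncommuting involutions lie in a line. -/
theorem line_of_pair {e u : H} (he : IsInv V f e) (hu : IsInv V f u) (hnc : ¬ Commute e u) :
    ∃ P' : Submodule (ZMod 2) V, IsLine V H f (Fx 2 V e ⊓ Fx 2 V u) P' := by
  have hg : e * u * (e * u) * (e * u * (e * u)) ≠ 1 := fun h =>
    hnc (commute_of_sq_two he.2.1 hu.2.1 (hB.sq_eq_one h))
  set z := e * u * (e * u) with hz
  have hle : Fx 2 V e ⊓ Fx 2 V u ≤ Fx 2 V z :=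
    Fx_le_mul (Fx_le_mul inf_le_left inf_le_right) (Fx_le_mul inf_le_left inf_le_right)
  have h1 := rk_le_of_le hle
  have h2 := hmin z hg
  have h3 := Submodule.finrank_sup_add_finrank_inf_eq (Fx 2 V e) (Fx 2 V u)
  have h4 := Submodule.finrank_le (Fx 2 V e ⊔ Fx 2 V u)
  have h5 := rk_add (p := 2) (V := V) e
  have h6 := rk_add (p := 2) (V := V) u
  have h7 := rk_add (p := 2) (V := V) z
  rw [he.2.2] at h5
  rw [hu.2.2] at h6
  have hC' : IsCore2 V H (2 * f) (Fx 2 V e ⊓ Fx 2 V u) := by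
    refine ⟨hmin, by omega, z, fun h => hg (by rw [h, mul_one]), hB.odd_orderOf_sq _, ?_⟩
    exact (Submodule.eq_of_le_of_finrank_le hle (by omega)).symm
  exact hC'.exists_line hB hf

omit hB hf hmin in
theorem IsLine.inv_of_sq {t : H} (hL : IsLine V H f C P) (ht : t ∈ fix 2 V H C) (hti : IsInv V f t) :
    Fx 2 V t = C ⊔ Mv 2 V t ∧ Fx 2 V t ⊓ P = Mv 2 V t := by
  have h := (hL.invol t ht hti.1 hti.2.1).2
  refine ⟨h, ?_⟩
  rw [h, sup_comm, sup_inf_assoc_of_le _ (hL.mv_le t ht), hL.compl.inf_eq_bot, sup_bot_eq]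

/-- Noncommuting involutions: the moved space of one avoids the fixed space of the other. -/
theorem disjoint_of_noncommute {e u : H} (he : IsInv V f e) (hu : IsInv V f u)
    (hnc : ¬ Commute e u) : Mv 2 V e ⊓ Fx 2 V u = ⊥ := by
  obtain ⟨P', hP'⟩ := line_of_pair hB hf hmin he hu hnc
  have hem : e ∈ fix 2 V H (Fx 2 V e ⊓ Fx 2 V u) := mem_fix_iff_le.2 inf_le_left
  have hum : u ∈ fix 2 V H (Fx 2 V e ⊓ Fx 2 V u) := mem_fix_iff_le.2 inf_le_right
  refine eq_bot_iff.2 fun x hx => ?_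
  by_contra h0
  have h1 : x ∈ Mv 2 V u := (hP'.inv_of_sq hum hu).2 ▸ ⟨hx.2, hP'.mv_le e hem hx.1⟩
  exact hnc (hP'.uniq e hem u hum he hu x h0 hx.1 h1 ▸ Commute.refl e)

include hL

omit hB hf hmin in
theorem IsLine.sup_eq {r t : H} (hr : r ∈ fix 2 V H C) (ht : t ∈ fix 2 V H C) (hri : IsInv V f r)
    (hti : IsInv V f t) (hne : r ≠ t) :
    Mv 2 V r ⊔ Mv 2 V t = P ∧ Fx 2 V r ⊓ Fx 2 V t = C := by
  have hd : Mv 2 V r ⊓ Mv 2 V t = ⊥ := eq_bot_iff.2 fun x hx => by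
    by_contra h0
    exact hne (hL.uniq r hr t ht hri hti x h0 hx.1 hx.2)
  have hsup : Mv 2 V r ⊔ Mv 2 V t = P := by
    refine Submodule.eq_of_le_of_finrank_le (sup_le (hL.mv_le r hr) (hL.mv_le t ht)) ?_
    have h3 := Submodule.finrank_sup_add_finrank_inf_eq (Mv 2 V r) (Mv 2 V t)
    rw [hd, finrank_bot] at h3
    have := hri.2.2; have := hti.2.2; have := hL.dimP
    simp only [rk] at *
    omega
  refine ⟨hsup, le_antisymm ?_ (le_inf (mem_fix_iff_le.1 hr) (mem_fix_iff_le.1 ht))⟩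
  intro x hx
  obtain ⟨c, hc, q, hq, rfl⟩ :=
    Submodule.mem_sup.1 (hL.compl.sup_eq_top ▸ Submodule.mem_top : x ∈ C ⊔ P)
  have h1 : q ∈ Mv 2 V r := (hL.inv_of_sq hr hri).2 ▸
    ⟨by simpa using Submodule.sub_mem _ hx.1 (mem_fix_iff_le.1 hr hc), hq⟩
  have h2 : q ∈ Mv 2 V t := (hL.inv_of_sq ht hti).2 ▸
    ⟨by simpa using Submodule.sub_mem _ hx.2 (mem_fix_iff_le.1 ht hc), hq⟩
  rw [(Submodule.mem_bot (ZMod 2)).1 (hd ▸ ⟨h1, h2⟩ : q ∈ (⊥ : Submodule (ZMod 2) V)), add_zero]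
  exact hc

omit hB hmin in
theorem IsLine.exists_pair : ∃ e t : H, e ∈ fix 2 V H C ∧ t ∈ fix 2 V H C ∧ IsInv V f e ∧
    IsInv V f t ∧ e ≠ t := by
  obtain ⟨x, hx, hx0⟩ := Submodule.exists_mem_ne_zero_of_ne_bot (show P ≠ ⊥ from fun h => by
    have := hL.dimP
    rw [h, finrank_bot] at this
    omega)
  obtain ⟨e, he, hei, -⟩ := hL.cover x hx hx0
  obtain ⟨y, hy, hye⟩ : ∃ y ∈ P, y ∉ Mv 2 V e := by
    by_contra h
    push Not at h
    have h1 := Submodule.finrank_mono (show P ≤ Mv 2 V e from fun y hy => h y hy)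
    have := hei.2.2; have := hL.dimP
    simp only [rk] at *
    omega
  obtain ⟨t, ht, hti, hyt⟩ := hL.cover y hy fun h => hye (h ▸ Submodule.zero_mem _)
  exact ⟨e, t, he, ht, hei, hti, fun h => hye (h ▸ hyt)⟩

/-- An involution outside a line commutes with the line. -/
theorem commute_of_not_mem_two {s e : H} (hs : IsInv V f s) (hsC : s ∉ fix 2 V H C)
    (he : e ∈ fix 2 V H C) (hei : IsInv V f e) : Commute s e := by
  by_contra hse
  have hMs := hs.2.2
  have hMe := hei.2.2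
  have hP := hL.dimP
  simp only [rk] at hMs hMe
  set X := Fx 2 V s ⊓ P with hX
  have hXe : Mv 2 V e ⊓ X = ⊥ := eq_bot_iff.2 fun x hx =>
    disjoint_of_noncommute hB hf hmin hei hs (fun h => hse h.symm) ▸ ⟨hx.1, hx.2.1⟩
  have hXdim : Module.finrank (ZMod 2) X = f := by
    have h1 := Submodule.finrank_sup_add_finrank_inf_eq (Fx 2 V s) P
    have h2 := Submodule.finrank_le (Fx 2 V s ⊔ P)
    have h3 := rk_add (p := 2) (V := V) s
    have h4 := Submodule.finrank_sup_add_finrank_inf_eq (Mv 2 V e) X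
    have h5 := Submodule.finrank_mono (sup_le (hL.mv_le e he) inf_le_right : Mv 2 V e ⊔ X ≤ P)
    rw [hXe, finrank_bot] at h4
    rw [← hX] at h1
    rw [hs.2.2] at h3
    omega
  obtain ⟨x0, hx0X, hx00⟩ := Submodule.exists_mem_ne_zero_of_ne_bot (show X ≠ ⊥ from fun h => by
    rw [h, finrank_bot] at hXdim; omega)
  obtain ⟨r0, hr0, hr0i, hx0r⟩ := hL.cover x0 hx0X.2 hx00
  have hsr0 : Commute s r0 := by
    by_contra h
    exact hx00 ((Submodule.mem_bot (ZMod 2)).1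
      (disjoint_of_noncommute hB hf hmin hr0i hs (fun h' => h h'.symm) ▸ ⟨hx0r, hx0X.1⟩))
  set M0 := Mv 2 V r0 with hM0
  have hM0s : M0 ≤ Fx 2 V s := hB.Mv_le_Fx_of_commute2 hr0i.2.1 hsr0
  have hXM : M0 = X := by
    refine Submodule.eq_of_le_of_finrank_le (le_inf hM0s (hL.mv_le r0 hr0)) ?_
    have := hr0i.2.2
    simp only [rk] at this
    rw [hM0]; omega
  have hMs0 : Mv 2 V s ≤ C ⊔ M0 :=
    (hL.inv_of_sq hr0 hr0i).1 ▸ hB.Mv_le_Fx_of_commute2 hs.2.1 hsr0.symm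
  have hother : ∀ r ∈ fix 2 V H C, IsInv V f r → r ≠ r0 → ¬ Commute s r := by
    intro r hr hri hne hc
    obtain ⟨m, hm, hm0⟩ := hri.exists_mem_ne
    exact hne (hL.uniq r hr r0 hr0 hri hr0i m hm0 hm
      (hXM ▸ ⟨hB.Mv_le_Fx_of_commute2 hri.2.1 hc hm, hL.mv_le r hr hm⟩ : m ∈ M0))
  have hMsC : Mv 2 V s ⊓ C = ⊥ := eq_bot_iff.2 fun x hx =>
    disjoint_of_noncommute hB hf hmin hs hei hse ▸ ⟨hx.1, mem_fix_iff_le.1 he hx.2⟩
  -- a moved vector of `s` with a nonzero component in `C`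
  obtain ⟨ms, hms, m0, hm0, n, hn, hmsn, hn0⟩ : ∃ ms ∈ Mv 2 V s, ∃ m0 ∈ M0, ∃ n ∈ C,
      m0 + n = ms ∧ n ≠ 0 := by
    by_contra hcon
    push Not at hcon
    have hle : Mv 2 V s ≤ M0 := fun y hy => by
      obtain ⟨c, hc, m, hm, rfl⟩ := Submodule.mem_sup.1 (hMs0 hy)
      rw [hcon _ hy m hm c hc (add_comm m c), zero_add]
      exact hm
    refine hsC (mem_fix.2 fun c hc => ?_)
    obtain ⟨v, hv⟩ := mem_Mv.1 (hle (sub_mem_Mv s c))
    exact hB.urule (h := r0) (g := s) (v := v) (mem_fix.1 hr0 c hc) (by rw [hv]; abel)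
  -- a preimage in the plane
  obtain ⟨x, hxP, hsx⟩ : ∃ x ∈ P, s • x - x = ms := by
    let D : P →ₗ[ZMod 2] V := (op 2 V s - 1).comp P.subtype
    have hker : LinearMap.ker D = X.comap P.subtype := by
      ext y
      simp only [D, LinearMap.mem_ker, LinearMap.comp_apply, Submodule.subtype_apply,
        op_sub_one_apply, Submodule.mem_comap, hX, Submodule.mem_inf, mem_Fx, sub_eq_zero,
        Submodule.coe_mem, and_true]
    have hrange : LinearMap.range D = Mv 2 V s := by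
      refine Submodule.eq_of_le_of_finrank_le ?_ ?_
      · rintro _ ⟨y, rfl⟩
        exact LinearMap.mem_range_self _ _
      · have h1 := LinearMap.finrank_range_add_finrank_ker D
        have hXdim' : Module.finrank (ZMod 2) ↥(Fx 2 V s ⊓ P) = f := hXdim
        rw [hker, (Submodule.comapSubtypeEquivOfLe (inf_le_right : X ≤ P)).finrank_eq] at h1
        omega
    obtain ⟨y, hy⟩ := (hrange.symm ▸ hms : ms ∈ LinearMap.range D)
    exact ⟨y, y.2, by rw [← hy]; simp [D, op_sub_one_apply]⟩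
  have hnC : ∀ g ∈ fix 2 V H C, g • n = n := fun g hg => mem_fix.1 hg n hn
  have hx0' : x ≠ 0 := by
    rintro rfl
    have h1 : ms = 0 := by simpa using hsx.symm
    have h2 : n = -m0 := eq_neg_of_add_eq_zero_right (hmsn.trans h1)
    exact hn0 (Submodule.disjoint_def.1 hL.compl.disjoint n hn
      (h2 ▸ Submodule.neg_mem _ (hL.mv_le r0 hr0 hm0)))
  obtain ⟨r, hr, hri, hxr⟩ := hL.cover x hxP hx0'
  have hxM0 : x ∉ M0 := by
    intro h
    have h1 : ms = 0 := by rw [← hsx, mem_Fx.1 (hM0s h), sub_self]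
    have h2 : n = -m0 := eq_neg_of_add_eq_zero_right (hmsn.trans h1)
    exact hn0 (Submodule.disjoint_def.1 hL.compl.disjoint n hn
      (h2 ▸ Submodule.neg_mem _ (hL.mv_le r0 hr0 hm0)))
  set a1 := x + m0 with ha1
  have ha1P : a1 ∈ P := Submodule.add_mem _ hxP (hL.mv_le r0 hr0 hm0)
  have ha10 : a1 ≠ 0 := fun h => hxM0 (eq_neg_of_add_eq_zero_left h ▸ Submodule.neg_mem _ hm0)
  obtain ⟨d, hd, hdi, had⟩ := hL.cover a1 ha1P ha10
  have hdr0 : d ≠ r0 := fun h => hxM0 (by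
    have := Submodule.sub_mem M0 (show a1 ∈ Mv 2 V r0 from h ▸ had) hm0
    rwa [ha1, add_sub_cancel_right] at this)
  obtain ⟨k, hk, hkd⟩ := hL.rot r hr d hd hri hdi
  set a := k • x with ha
  have had' : a ∈ Mv 2 V d := hkd ▸ mem_Mv_conj.2 hxr
  have hga : (s * k⁻¹) • a = a1 + n := by
    rw [ha, mul_smul, inv_smul_smul, ha1, add_assoc, hmsn, ← hsx]; abel
  -- the orbit point in the direction of `d`
  have haa : a = a1 := by
    by_contra hne
    set b := a1 - a with hb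
    have hbd : b ∈ Mv 2 V d := Submodule.sub_mem _ had had'
    have hb0 : b ≠ 0 := sub_ne_zero.2 (Ne.symm hne)
    obtain ⟨q, hq⟩ : ∃ q, q = b - m0 := ⟨_, rfl⟩
    have hqP : q ∈ P := hq ▸ Submodule.sub_mem _ (hL.mv_le d hd hbd) (hL.mv_le r0 hr0 hm0)
    have hbM0 : b ∉ M0 := fun h => hdr0 (hL.uniq d hd r0 hr0 hdi hr0i b hb0 hbd h)
    have hq0 : q ≠ 0 := fun h => hbM0 (by rw [sub_eq_zero.1 (hq ▸ h : b - m0 = 0)]; exact hm0)
    obtain ⟨e', he', he'i, hqe⟩ := hL.cover q hqP hq0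
    have hse' : ¬ Commute s e' := hother e' he' he'i fun h => hbM0 (by
      have := Submodule.add_mem M0 (show q ∈ Mv 2 V r0 from h ▸ hqe) hm0
      rwa [hq, sub_add_cancel] at this)
    obtain ⟨P', hP'⟩ := line_of_pair hB hf hmin hs he'i hse'
    have hsm : s ∈ fix 2 V H (Fx 2 V s ⊓ Fx 2 V e') := mem_fix_iff_le.2 inf_le_left
    have hem : e' ∈ fix 2 V H (Fx 2 V s ⊓ Fx 2 V e') := mem_fix_iff_le.2 inf_le_right
    have hz : b + n = ms + q := by rw [← hmsn, hq]; abel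
    have hzP : b + n ∈ P' := hz ▸ Submodule.add_mem _ (hP'.mv_le s hsm hms) (hP'.mv_le e' hem hqe)
    have hz0 : b + n ≠ 0 := fun h => hb0 (Submodule.disjoint_def.1 hL.compl.disjoint b
      (eq_neg_of_add_eq_zero_left h ▸ Submodule.neg_mem _ hn) (hL.mv_le d hd hbd))
    obtain ⟨w, -, hwi, hzw⟩ := hP'.cover _ hzP hz0
    have hwd : Commute w d := by
      by_contra h
      refine hz0 ((Submodule.mem_bot (ZMod 2)).1 (disjoint_of_noncommute hB hf hmin hwi hdi h ▸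
        ⟨hzw, Submodule.add_mem _ (Mv_le_Fx_self hdi.2.1 hbd) (mem_fix_iff_le.1 hd hn)⟩))
    obtain ⟨v, hv⟩ := mem_Mv.1 hzw
    have h1 := hB.urule (h := w) (g := s * k⁻¹) (v := v)
      (mem_Fx.1 (hB.Mv_le_Fx_of_commute2 hdi.2.1 hwd had')) (by rw [hga, hv, hb]; abel)
    rw [hga, eq_comm, ← sub_eq_zero] at h1
    exact hz0 (by rw [← neg_eq_zero, ← h1, hb]; abel)
  have hr0x : r0 • x = a := by
    rcases hL.reflect k hk r0 hr0 hr0i x (by rw [← ha, haa, ha1, add_sub_cancel_left]; exact hm0)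
      with h | h
    · exfalso
      have h1 : m0 = 0 := by
        rw [← ha] at h
        rw [h, ha1, left_eq_add] at haa
        exact haa
      refine hn0 ((Submodule.mem_bot (ZMod 2)).1 (hMsC ▸ ⟨?_, hn⟩))
      rw [← hmsn, h1, zero_add] at hms
      exact hms
    · exact h.symm
  obtain ⟨l, hl, hld⟩ := hL.rot d hd r0 hr0 hdi hr0i
  set a0 := l • a with ha0
  have ha0M : a0 ∈ M0 := by
    show a0 ∈ Mv 2 V r0
    rw [← hld]; exact mem_Mv_conj.2 had'
  have hj : (s * r0) • a0 = a0 := by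
    rw [mul_smul, mem_Fx.1 (Mv_le_Fx_self hr0i.2.1 ha0M), mem_Fx.1 (hM0s ha0M)]
  have hjv : (s * r0) • a - a = n := by
    rw [← hr0x, mul_smul, smul_smul r0, hr0i.2.1, one_smul, hr0x, haa, ha1,
      show s • x = s • x - x + x by abel, hsx, ← hmsn]
    abel
  have hg : (l * (s * k⁻¹) * l⁻¹) • a0 = a0 + n := by
    rw [ha0, mul_smul, inv_smul_smul, mul_smul, hga, ← haa, smul_add, hnC l hl]
  have h1 := hB.urule (h := s * r0) (g := l * (s * k⁻¹) * l⁻¹) (v := a) hj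
    (by rw [hg, hjv])
  rw [hg, add_eq_left] at h1
  exact hn0 h1

/-- The core of a line is trivial. -/
theorem core_eq_bot_two : C = ⊥ := by
  by_contra hC0
  obtain ⟨e, t, he, ht, hei, hti, hne⟩ := hL.exists_pair hf
  obtain ⟨hsup, hFx⟩ := hL.sup_eq he ht hei hti hne
  have hnc : ¬ Commute e t := fun h => hne (hL.comm e he t ht hei hti h)
  have hdisj := hL.compl.disjoint
  have htype : ∀ h u v : H, IsInv V f u → IsInv V f v → ¬ Commute u v →
      h * u * h⁻¹ ∈ fix 2 V H C → h * v * h⁻¹ ∈ fix 2 V H C := by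
    intro h u v hu hv huv hmem
    by_contra hout
    exact huv ((Commute.conj_iff h).1
      (commute_of_not_mem_two hB hf hmin hL (hv.conj h) hout hmem (hu.conj h))).symm
  have houtF : ∀ u : H, IsInv V f u → u ∉ fix 2 V H C →
      Mv 2 V u ≤ C ∧ P ≤ Fx 2 V u := by
    intro u hu hu'
    have h1 := commute_of_not_mem_two hB hf hmin hL hu hu' he hei
    have h2 := commute_of_not_mem_two hB hf hmin hL hu hu' ht hti
    refine ⟨hFx ▸ le_inf (hB.Mv_le_Fx_of_commute2 hu.2.1 h1.symm)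
      (hB.Mv_le_Fx_of_commute2 hu.2.1 h2.symm), ?_⟩
    rw [← hsup]
    exact sup_le (hB.Mv_le_Fx_of_commute2 hei.2.1 h1) (hB.Mv_le_Fx_of_commute2 hti.2.1 h2)
  obtain ⟨h, hh⟩ : ∃ h : H, h * e * h⁻¹ ∉ fix 2 V H C := by
    by_contra hall
    push Not at hall
    rcases hB.irr P (fun h x hx => by
      rw [← hsup, Submodule.mem_sup] at hx
      obtain ⟨a, ha, b, hb, rfl⟩ := hx
      rw [smul_add]
      exact Submodule.add_mem _ (hL.mv_le _ (hall h) (mem_Mv_conj.2 ha))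
        (hL.mv_le _ (htype h e t hei hti hnc (hall h)) (mem_Mv_conj.2 hb))) with h1 | h1
    · have := hL.dimP
      rw [h1, finrank_bot] at this
      omega
    · exact hC0 (by rw [← inf_top_eq C, ← h1]; exact hdisj.eq_bot)
  have hh' : h * t * h⁻¹ ∉ fix 2 V H C := fun hh'' =>
    hh (htype h t e hti hei (fun hc => hnc hc.symm) hh'')
  obtain ⟨hh1, hh2⟩ := houtF _ (hei.conj h) hh
  obtain ⟨hh1', hh2'⟩ := houtF _ (hti.conj h) hh'
  have hhP : ∀ x ∈ P, h • x ∈ C := by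
    intro x hx
    rw [← hsup, Submodule.mem_sup] at hx
    obtain ⟨a, ha, b, hb, rfl⟩ := hx
    rw [smul_add]
    exact Submodule.add_mem _ (hh1 (mem_Mv_conj.2 ha)) (hh1' (mem_Mv_conj.2 hb))
  set g := e * t with hg
  have hgK : g ∈ fix 2 V H C := mul_mem he ht
  have hg' : ∀ x ∈ P, (h * g * h⁻¹) • x = x := by
    intro x hx
    rw [hg, show h * (e * t) * h⁻¹ = h * e * h⁻¹ * (h * t * h⁻¹) by group, mul_smul,
      mem_Fx.1 (hh2' hx), mem_Fx.1 (hh2 hx)]
  obtain ⟨a, ha, ha1⟩ : ∃ a ∈ P, g • a ≠ a := by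
    by_contra hall
    push Not at hall
    have : g = 1 := by
      refine (Fx_eq_top_iff (p := 2) (V := V)).1 (top_le_iff.1 ?_)
      rw [← hL.compl.sup_eq_top]
      exact sup_le (mem_fix_iff_le.1 hgK) fun x hx => mem_Fx.2 (hall x hx)
    exact hne ((eq_inv_of_mul_eq_one_left this).trans (inv_eq_of_mul_eq_one_left hti.2.1))
  have hZP : ∀ c ∈ Subgroup.zpowers g, c • a ∈ P := fun c hc => by
    rw [smul_add_eq c a]
    exact Submodule.add_mem _ ha
      (hL.mv_le c (Subgroup.zpowers_le.2 hgK hc) (sub_mem_Mv c a))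
  have hc1 : ∀ c ∈ Subgroup.zpowers g, ∀ x ∈ P, (h * c * h⁻¹) • x = x := by
    intro c hc x hx
    obtain ⟨i, rfl⟩ := Subgroup.mem_zpowers_iff.1 hc
    rw [← conj_zpow]
    exact MulAction.mem_stabilizer_iff.1 (zpow_mem (MulAction.mem_stabilizer_iff.2 (hg' x hx)) i)
  obtain ⟨k0, -, hk01, hk02⟩ := hB.swap (S := ⊥) (g := h)
    (mem_fix.2 fun s hs => by simp [(Submodule.mem_bot _).1 hs]) a
  let R : Set (V × V) := (fun c : H => (c • a, h • c • a)) '' (Subgroup.zpowers g : Set H) ∪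
    (fun c : H => (h • c • a, c • a)) '' (Subgroup.zpowers g : Set H)
  have hfixC : ∀ c ∈ Subgroup.zpowers g, ∀ x ∈ P, c • (h • x) = h • x :=
    fun c hc x hx => mem_fix.1 (Subgroup.zpowers_le.2 hgK hc) _ (hhP x hx)
  have hL2 : ∀ c ∈ Subgroup.zpowers g, ∀ d ∈ Subgroup.zpowers g,
      (c * (h * d * h⁻¹)) • (a - h • a) = c • a - h • d • a ∧
      (d * (h * c * h⁻¹)) • (h • a - a) = h • c • a - d • a := by
    intro c hc d hd
    constructor
    · rw [mul_smul, smul_sub (h * d * h⁻¹), hc1 d hd a ha, mul_smul (h * d), inv_smul_smul,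
        mul_smul, smul_sub, hfixC c hc _ (hZP d hd)]
    · rw [mul_smul, smul_sub (h * c * h⁻¹), hc1 c hc a ha, mul_smul (h * c), inv_smul_smul,
        mul_smul, smul_sub, hfixC d hd _ (hZP c hc)]
  have hcross : ∀ c ∈ Subgroup.zpowers g, ∀ d ∈ Subgroup.zpowers g,
      ∃ k : H, k • (c • a - h • d • a) = h • c • a - d • a := by
    intro c hc d hd
    refine ⟨d * (h * c * h⁻¹) * k0 * (c * (h * d * h⁻¹))⁻¹, ?_⟩
    obtain ⟨h1, h2⟩ := hL2 c hc d hd
    rw [← h1, mul_smul, inv_smul_smul, mul_smul, smul_sub k0, hk01, hk02, h2]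
  obtain ⟨k, hk⟩ := hB.bin R (by
    rintro x (⟨c, -, rfl⟩ | ⟨c, -, rfl⟩)
    · exact ⟨h, rfl⟩
    · exact ⟨h⁻¹, inv_smul_smul h _⟩) (by
    rintro x (⟨c, hc, rfl⟩ | ⟨c, hc, rfl⟩) y (⟨d, hd, rfl⟩ | ⟨d, hd, rfl⟩)
    · exact ⟨h, smul_sub _ _ _⟩
    · exact hcross c hc d hd
    · obtain ⟨k, hk⟩ := hcross d hd c hc
      exact ⟨k, by rw [← neg_sub, smul_neg, hk, neg_sub]⟩
    · exact ⟨h⁻¹, by rw [← smul_sub, inv_smul_smul]⟩)
  have hka : k • a = h • a := by simpa using hk _ (Or.inl ⟨1, one_mem _, rfl⟩)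
  have hka' : k • h • a = a := by simpa using hk _ (Or.inr ⟨1, one_mem _, rfl⟩)
  have hkb : k • g • a = h • g • a := hk _ (Or.inl ⟨g, Subgroup.mem_zpowers g, rfl⟩)
  have hG : (g * (h * g * h⁻¹)) • (a + h • a) = g • a + h • g • a := by
    rw [mul_smul g, smul_add (h * g * h⁻¹), hg' a ha, mul_smul (h * g), inv_smul_smul,
      mul_smul h g, smul_add g, hfixC g (Subgroup.mem_zpowers g) _ (hZP g (Subgroup.mem_zpowers g))]
  have h1 := hB.urule (u := a + h • a) (h := k) (g := g * (h * g * h⁻¹)) (v := g • a - a)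
    (by rw [smul_add, hka, hka', add_comm]) (by
      rw [hG, smul_sub, hkb, hka]
      simp only [sub_self_two]
      rw [show a + h • a + (h • g • a + h • a + (g • a + a)) =
        g • a + h • g • a + ((a + a) + (h • a + h • a)) by abel, ZModModule.add_self,
        ZModModule.add_self, add_zero, add_zero])
  rw [hG] at h1
  have h2 : g • a - a = h • a - h • g • a := by
    rw [sub_eq_sub_iff_add_eq_add, h1]; abel
  exact ha1 (sub_eq_zero.1 (Submodule.disjoint_def.1 hdisj _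
    (h2 ▸ Submodule.sub_mem _ (hhP a ha) (hhP _ (hZP g (Subgroup.mem_zpowers g))))
    (Submodule.sub_mem _ (hZP g (Subgroup.mem_zpowers g)) ha)))

/-- The conclusion in characteristic two. -/
theorem dih_of_line : Dih 2 V H f := by
  obtain rfl := core_eq_bot_two hB hf hmin hL
  have hall : ∀ g : H, g ∈ fix 2 V H (⊥ : Submodule (ZMod 2) V) := fun g =>
    mem_fix.2 fun x hx => by simp [(Submodule.mem_bot _).1 hx]
  have hPtop : P = ⊤ := by have := hL.compl.sup_eq_top; rwa [bot_sup_eq] at this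
  have hn : Module.finrank (ZMod 2) V = 2 * f := by
    have := hL.dimP; rwa [hPtop, finrank_top] at this
  have hsq : ∀ k : H, ∀ x : V, x ≠ 0 → k • x = x → k * k = 1 := by
    intro k x hx hkx
    by_contra h
    have h1 := hmin k h
    have h2 : 0 < Module.finrank (ZMod 2) (Fx 2 V k) := by
      rw [Nat.pos_iff_ne_zero]
      intro h0
      exact hx ((Submodule.mem_bot (ZMod 2)).1 (Submodule.finrank_eq_zero.1 h0 ▸ mem_Fx.2 hkx))
    have := rk_add (p := 2) (V := V) k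
    omega
  have hst : ∀ x : V, x ≠ 0 → ∃ e : H, IsInv V f e ∧ e • x = x ∧
      ∀ h : H, h • x = x → h = 1 ∨ h = e := by
    intro x hx
    obtain ⟨t, -, hti, hxt⟩ := hL.cover x (hPtop ▸ Submodule.mem_top) hx
    have htx := mem_Fx.1 (Mv_le_Fx_self hti.2.1 hxt)
    refine ⟨t, hti, htx, fun h hhx => ?_⟩
    by_cases h1 : h = 1
    · exact Or.inl h1
    · exact Or.inr (hL.comm h (hall h) t (hall t) (hL.invol h (hall h) h1 (hsq h x hx hhx)).1 hti
        (commute_of_sq_two (hsq h x hx hhx) hti.2.1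
          (hsq _ x hx (by rw [mul_smul, htx, hhx]))))
  refine ⟨hf, hn, fun x hx => ?_, fun e he hx => ?_, fun g e hge he hx => ?_⟩
  · obtain ⟨e, he, hex, hu⟩ := hst x hx
    exact ⟨e, he.1, he.2.1, hex, hu⟩
  · obtain ⟨x, hx0, hex⟩ := hx
    have h1 := rk_add (p := 2) (V := V) e
    rw [(hL.invol e (hall e) he (hsq e x hx0 hex)).1.2.2, hn] at h1
    omega
  · obtain ⟨x, hx0, hex⟩ := hx
    exact he (by rw [← hge]; exact hB.sq_eq_one (by rw [hge]; exact hsq e x hx0 hex))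

end Cfsg.Agent.BinAff
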