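import Cfsg.Agent.Lib.Perm.Primitive
import Cfsg.Agent.Lib.Perm.BinaryAffine.OddFinish
import Cfsg.Agent.Lib.Perm.BinaryAffine.TwoFinish
import Cfsg.Agent.Lib.Perm.BinaryAffine.Field
import Mathlib.GroupTheory.GroupAction.Blocks
import Mathlib.GroupTheory.Perm.Cycle.Type

/-!
Binary primitive affine permutation groups: degree prime with stabilisers of order at most two,
or the affine anisotropic plane orthogonal groups.
-/

set_option autoImplicit false

namespace Cfsg.Agent.BinAff

theorem Hyp.exists_dih {p : ℕ} [Fact p.Prime] {V : Type*} [AddCommGroup V] [Module (ZMod p) V]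
    {H : Type*} [Group H] [DistribMulAction H V] [Finite V] [Finite H] [FaithfulSMul H V]
    (hB : Hyp p V H) (hex : ∃ g : H, g * g ≠ 1) : ∃ f, Dih p V H f := by
  by_cases hp : p = 2
  · subst hp
    obtain ⟨f, hf, C, hC⟩ := exists_size_two hB hex
    obtain ⟨P, hL⟩ := hC.exists_line hB hf
    exact ⟨f, dih_of_line hB hf hC.min hL⟩
  · obtain ⟨f, hf, -, C, hC⟩ := exists_size hB hp hex
    exact ⟨f, dih_of_core hB hp hC hf⟩

/-- An irreducible elementary abelian linear two-group. -/
theorem Hyp.small {p : ℕ} [Fact p.Prime] {V : Type*} [AddCommGroup V] [Module (ZMod p) V]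
    {H : Type*} [Group H] [DistribMulAction H V] [Finite V] [Finite H] [FaithfulSMul H V]
    (hB : Hyp p V H) (hsq : ∀ g : H, g * g = 1) (hV : Nontrivial V) :
    Nat.card H ≤ 2 ∧ Nat.card V = p := by
  have hcomm : ∀ g h : H, Commute g h := fun g h => by
    have h1 : g * h = (g * h)⁻¹ := eq_inv_of_mul_eq_one_left (hsq _)
    rw [mul_inv_rev, inv_eq_of_mul_eq_one_left (hsq g), inv_eq_of_mul_eq_one_left (hsq h)] at h1
    exact h1
  have hneg : ∀ g : H, g ≠ 1 → ∀ x : V, g • x = -x := by
    intro g hg x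
    rcases hB.irr (Fx p V g) (fun h y hy => smul_mem_Fx_of_comm (hcomm h g) hy) with h | h
    · refine eq_neg_of_add_eq_zero_left ?_
      rw [← Submodule.mem_bot (R := ZMod p), ← h, mem_Fx, smul_add, smul_smul, hsq, one_smul,
        add_comm]
    · exact absurd (Fx_eq_top_iff.1 h) hg
  constructor
  · haveI := Fintype.ofFinite H
    classical
    rw [Nat.card_eq_fintype_card, ← Finset.card_univ]
    by_cases h : ∃ g : H, g ≠ 1
    · obtain ⟨g, hg⟩ := h
      refine (Finset.card_le_card (t := {1, g}) fun k _ => ?_).trans Finset.card_le_two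
      rw [Finset.mem_insert, Finset.mem_singleton, or_iff_not_imp_left]
      intro hk
      exact FaithfulSMul.eq_of_smul_eq_smul (α := V) fun x => by rw [hneg k hk, hneg g hg]
    · push Not at h
      exact (Finset.card_le_card (t := {1}) fun k _ => Finset.mem_singleton.2 (h k)).trans
        (by simp)
  · obtain ⟨x, hx⟩ := exists_ne (0 : V)
    rcases hB.irr (Submodule.span (ZMod p) {x}) (fun g y hy => by
      by_cases hg : g = 1
      · rw [hg, one_smul]; exact hy
      · rw [hneg g hg]; exact Submodule.neg_mem _ hy) with h | h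
    · exact absurd ((Submodule.span_singleton_eq_bot).1 h) hx
    · have h1 := finrank_span_singleton (K := ZMod p) hx
      rw [h, finrank_top] at h1
      rw [Module.natCard_eq_pow_finrank (K := ZMod p), Nat.card_zmod, h1, pow_one]

open MulAction in
/-- Primitivity gives irreducibility of the point stabiliser. -/
theorem irr_of_primitive {p : ℕ} [Fact p.Prime] {V : Type*} [AddCommGroup V] [Module (ZMod p) V]
    {H : Type*} [Group H] [DistribMulAction H V] [Finite V] {G Ω : Type*} [Group G] [MulAction G Ω]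
    [IsPreprimitive G Ω] (e : V → Ω) (hinj : Function.Injective e) (hsurj : Function.Surjective e)
    (hdec : ∀ g : G, ∃ (n : V) (h : H), ∀ v, g • e v = e (n + h • v))
    (W : Submodule (ZMod p) V) (hW : ∀ (h : H), ∀ x ∈ W, h • x ∈ W) : W = ⊥ ∨ W = ⊤ := by
  have hblock : IsBlock G (e '' (W : Set V)) := by
    rw [isBlock_iff_smul_eq_of_nonempty]
    intro g hne
    obtain ⟨n, h, hg⟩ := hdec g
    obtain ⟨_, ⟨_, ⟨v, hv, rfl⟩, rfl⟩, hx⟩ := hne
    have hnW : n ∈ W := by
      obtain ⟨w, hw, hw'⟩ := hx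
      have h1 : w = n + h • v := hinj (hw'.trans (hg v))
      rw [show n = w - h • v by rw [h1, add_sub_cancel_right]]
      exact Submodule.sub_mem _ hw (hW h v hv)
    refine Set.eq_of_subset_of_ncard_le ?_ ?_ ((Set.toFinite _).image e)
    · rintro _ ⟨_, ⟨w, hw, rfl⟩, rfl⟩
      exact ⟨_, Submodule.add_mem _ hnW (hW h w hw), (hg w).symm⟩
    · exact le_of_eq (Set.ncard_image_of_injective _ (MulAction.injective g)).symm
  rcases IsPreprimitive.isTrivialBlock_of_isBlock hblock with h | h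
  · left
    exact (Submodule.eq_bot_iff _).2 fun v hv =>
      hinj (h ⟨v, hv, rfl⟩ ⟨0, W.zero_mem, rfl⟩)
  · right
    refine eq_top_iff.2 fun v _ => ?_
    have : e v ∈ e '' (W : Set V) := h ▸ Set.mem_univ _
    obtain ⟨w, hw, hw'⟩ := this
    rw [← hinj hw']; exact hw

universe u v

open MulAction in
/-- The classification. -/
theorem main {G : Type u} {Ω : Type v} [Group G] [Finite G] [MulAction G Ω] [FaithfulSMul G Ω]
    [Fintype Ω] (hprim : IsPreprimitive G Ω)
    (haff : ∃ N : Subgroup G, N.Normal ∧ N ≠ ⊥ ∧ IsMulCommutative ↥N)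
    (hbin : ∀ (n : ℕ) (I J : Fin n → Ω), 2 ≤ n →
      (∀ i j : Fin n, i ≠ j → ∃ g : G, g • I i = J i ∧ g • I j = J j) →
        ∃ g : G, ∀ i, g • I i = J i) :
    ((Fintype.card Ω).Prime ∧ ∀ ω : Ω, Nat.card ↥(stabilizer G ω) ≤ 2) ∨
    (∃ (F E : Type) (_ : Field F) (_ : Fintype F) (_ : Field E) (_ : Fintype E) (_ : Algebra F E)
        (e : Ω ≃ E), Module.finrank F E = 2 ∧
        ∀ σ : Equiv.Perm Ω, σ ∈ (toPermHom G Ω).range ↔
          ∃ (a b : E) (φ : E ≃ₐ[F] E), Algebra.norm F a = 1 ∧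
            ∀ ω : Ω, e (σ ω) = a * φ (e ω) + b) := by
  obtain ⟨N, hN, hN1, hNc⟩ := haff
  haveI := hN
  haveI := hprim
  haveI : IsPretransitive N Ω := Perm.normal_isPretransitive N hN1
  obtain ⟨ω0⟩ : Nonempty Ω := by
    by_contra h
    rw [not_nonempty_iff] at h
    exact hN1 ((Subgroup.eq_bot_iff_forall N).2 fun n _ =>
      FaithfulSMul.eq_of_smul_eq_smul (α := Ω) fun x => h.elim x)
  have hreg := Perm.stabilizer_eq_bot_of_isMulCommutative (M := N) hNc ω0
  have hcardN := Perm.card_eq_of_regular ω0 hreg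
  have hinj : Function.Injective fun n : N => (n : G) • ω0 := by
    intro m n h
    have h1 : m⁻¹ * n ∈ stabilizer N ω0 := by
      show (((m⁻¹ * n : N) : G)) • ω0 = ω0
      simp only [Subgroup.coe_mul, Subgroup.coe_inv] at h ⊢
      rw [mul_smul, ← h, inv_smul_smul]
    rw [hreg, Subgroup.mem_bot] at h1
    exact inv_mul_eq_one.1 h1
  have hsurj : ∀ ω : Ω, ∃ n : N, (n : G) • ω0 = ω := fun ω =>
    let ⟨n, hn⟩ := exists_smul_eq N ω0 ω; ⟨n, hn⟩
  -- the exponent
  obtain ⟨p, hp, hpdvd⟩ := Nat.exists_prime_and_dvd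
    (show Nat.card N ≠ 1 from fun h => hN1 (Subgroup.eq_bot_of_card_eq N h))
  haveI := Fact.mk hp
  letI : CommGroup N := { (inferInstance : Group N) with mul_comm := hNc.is_comm.comm }
  let W : Subgroup G :=
    { carrier := {g | g ∈ N ∧ g ^ p = 1}
      one_mem' := ⟨one_mem N, one_pow p⟩
      mul_mem' := fun {a b} ha hb => ⟨mul_mem ha.1 hb.1, by
        have hc : Commute a b := congrArg Subtype.val (hNc.is_comm.comm (⟨a, ha.1⟩ : N) ⟨b, hb.1⟩)
        rw [hc.mul_pow, ha.2, hb.2, one_mul]⟩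
      inv_mem' := fun {a} ha => ⟨inv_mem ha.1, by rw [inv_pow, ha.2, inv_one]⟩ }
  haveI hWn : W.Normal := ⟨fun a ha g => ⟨hN.conj_mem a ha.1 g, by rw [conj_pow, ha.2, mul_one,
    mul_inv_cancel]⟩⟩
  have hW1 : W ≠ ⊥ := by
    obtain ⟨a, ha⟩ := exists_prime_orderOf_dvd_card' p hpdvd
    intro h
    have h1 : (a : G) ∈ W :=
      ⟨a.2, by rw [← Subgroup.coe_pow, ← ha, pow_orderOf_eq_one]; rfl⟩
    rw [h, Subgroup.mem_bot] at h1
    have : a = 1 := Subtype.ext h1
    rw [this, orderOf_one] at ha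
    exact hp.one_lt.ne ha
  haveI : IsPretransitive W Ω := Perm.normal_isPretransitive W hW1
  have hexp : ∀ n : N, n ^ p = 1 := by
    intro n
    obtain ⟨w, hw⟩ := exists_smul_eq W ω0 ((n : G) • ω0)
    have : (⟨(w : G), w.2.1⟩ : N) = n := hinj hw
    rw [← this]
    exact Subtype.ext w.2.2
  haveI : Finite Ω := inferInstance
  -- the linear group
  let V := Additive N
  letI : Module (ZMod p) V :=
    AddCommGroup.zmodModule fun x : V => Additive.toMul.injective ((toMul_nsmul p x).trans (hexp x.toMul))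
  haveI : Finite V := Finite.of_equiv N Additive.ofMul
  let H := stabilizer G ω0
  letI : SMul H V :=
    ⟨fun h v => Additive.ofMul ⟨(h : G) * (v.toMul : G) * (h : G)⁻¹, hN.conj_mem _ v.toMul.2 _⟩⟩
  have hsm : ∀ (h : H) (v : V),
      (((h • v).toMul : N) : G) = (h : G) * (v.toMul : G) * (h : G)⁻¹ := fun h v => rfl
  letI : DistribMulAction H V :=
    { one_smul := fun v => Additive.toMul.injective (Subtype.ext (by rw [hsm]; simp))
      mul_smul := fun a b v => Additive.toMul.injective (Subtype.ext (by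
        simp only [hsm, Subgroup.coe_mul]; group))
      smul_zero := fun a => Additive.toMul.injective (Subtype.ext (by rw [hsm]; simp))
      smul_add := fun a v w => Additive.toMul.injective (Subtype.ext (by
        rw [hsm]
        show _ = ((((a • v).toMul * (a • w).toMul) : N) : G)
        rw [Subgroup.coe_mul, hsm, hsm]
        show (a : G) * (((v.toMul * w.toMul) : N) : G) * (a : G)⁻¹ = _
        rw [Subgroup.coe_mul]; group)) }
  have hadd : ∀ a b : V, (((a + b).toMul : N) : G) = (a.toMul : G) * (b.toMul : G) :=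
    fun a b => rfl
  have hact : ∀ (h : H) (v : V),
      (h : G) • ((v.toMul : G) • ω0) = (((h • v).toMul : N) : G) • ω0 := by
    intro h v
    have h1 : (h : G)⁻¹ • ω0 = ω0 := (inv_mem h.2 : (h : G)⁻¹ ∈ stabilizer G ω0)
    rw [hsm, mul_smul ((h : G) * _), h1, mul_smul]
  haveI : FaithfulSMul H V := ⟨fun {a b} hab => Subtype.ext
    (FaithfulSMul.eq_of_smul_eq_smul (α := Ω) fun ω => by
      obtain ⟨n, rfl⟩ := hsurj ω
      have h1 := hact a (Additive.ofMul n)
      have h2 := hact b (Additive.ofMul n)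
      rw [hab] at h1
      exact h1.trans h2.symm)⟩
  have hstab : ∀ g : G, g • ω0 = ω0 → g ∈ H := fun g hg => hg
  have hB : Hyp p V H := by
    refine ⟨fun R hR1 hR2 => ?_, fun Wv hWv => ?_⟩
    · haveI : Fintype (↥(insert ((0 : V), (0 : V)) R)) := Fintype.ofFinite _
      let S := insert ((0 : V), (0 : V)) R
      have hS : ∀ a ∈ S, ∀ b ∈ S, ∃ h : H, h • (b.1 - a.1) = b.2 - a.2 := by
        rintro a (rfl | ha) b (rfl | hb)
        · exact ⟨1, by simp⟩
        · obtain ⟨h, hh⟩ := hR1 b hb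
          exact ⟨h, by simp [hh]⟩
        · obtain ⟨h, hh⟩ := hR1 a ha
          exact ⟨h, by simp [hh]⟩
        · exact hR2 b hb a ha
      let L : Fin (Fintype.card S) → V × V := fun i => ((Fintype.equivFin S).symm i : V × V)
      let T : Fin (Fintype.card S + 2) → V × V := Fin.cons (0, 0) (Fin.cons (0, 0) L)
      have hT : ∀ i, T i ∈ S := by
        intro i
        refine Fin.cases ?_ (fun i => Fin.cases ?_ (fun i => ?_) i) i
        · exact Or.inl rfl
        · exact Or.inl rfl
        · simp only [T, Fin.cons_succ]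
          exact Subtype.mem _
      obtain ⟨g, hg⟩ := hbin _ (fun i => ((T i).1.toMul : G) • ω0)
        (fun i => ((T i).2.toMul : G) • ω0) (by omega) (fun i j _ => by
          obtain ⟨h, hh⟩ := hS _ (hT i) _ (hT j)
          refine ⟨((T i).2.toMul : G) * h * ((T i).1.toMul : G)⁻¹, ?_, ?_⟩
          · rw [mul_smul, inv_smul_smul, mul_smul]
            have : (h : G) • ω0 = ω0 := h.2
            rw [this]
          · have h1 := hact h ((T j).1 - (T i).1)
            rw [hh] at h1
            have hd : ∀ a b : V, (((a - b).toMul : N) : G) = (a.toMul : G) * (b.toMul : G)⁻¹ :=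
              fun a b => by rw [sub_eq_add_neg, hadd]; rfl
            have hc : ∀ a b : V, (a.toMul : G) * (b.toMul : G) = (b.toMul : G) * (a.toMul : G) :=
              fun a b => congrArg Subtype.val (hNc.is_comm.comm a.toMul b.toMul)
            have hdc : ∀ a b : V, (((a - b).toMul : N) : G) = (b.toMul : G)⁻¹ * (a.toMul : G) :=
              fun a b => by rw [hd, eq_inv_mul_iff_mul_eq, ← mul_assoc, ← hc a b,
                mul_inv_cancel_right]
            rw [mul_smul, ← mul_smul ((T i).1.toMul : G)⁻¹, ← hdc, mul_smul, h1, ← mul_smul, hdc,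
              mul_inv_cancel_left])
      have hg0 : g • ω0 = ω0 := by
        have := hg 0
        simpa [T] using this
      refine ⟨⟨g, hstab g hg0⟩, fun a ha => ?_⟩
      have h1 := hg (((Fintype.equivFin S) ⟨a, Or.inr ha⟩).succ.succ)
      simp only [T, L, Fin.cons_succ, Equiv.symm_apply_apply] at h1
      exact Additive.toMul.injective (hinj ((hact ⟨g, hstab g hg0⟩ a.1).symm.trans h1))
    · refine irr_of_primitive (G := G) (fun v : V => (v.toMul : G) • ω0) ?_ ?_ ?_ Wv hWv
      · exact fun a b h => Additive.toMul.injective (hinj h)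
      · intro ω
        obtain ⟨n, hn⟩ := hsurj ω
        exact ⟨Additive.ofMul n, hn⟩
      · intro g
        obtain ⟨n, hn⟩ := hsurj (g • ω0)
        have hh : (n : G)⁻¹ * g ∈ H := hstab _ (by rw [mul_smul, ← hn, inv_smul_smul])
        refine ⟨Additive.ofMul n, ⟨_, hh⟩, fun v => ?_⟩
        rw [hadd, mul_smul, ← hact ⟨_, hh⟩ v]
        show g • _ = (n : G) • ((n : G)⁻¹ * g) • _
        rw [mul_smul, smul_inv_smul]
  let e0 : V ≃ Ω := Equiv.ofBijective (fun v : V => (v.toMul : G) • ω0)
    ⟨fun a b h => Additive.toMul.injective (hinj h),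
      fun ω => let ⟨n, hn⟩ := hsurj ω; ⟨Additive.ofMul n, hn⟩⟩
  have he0 : ∀ v : V, e0 v = (v.toMul : G) • ω0 := fun v => rfl
  by_cases hex : ∃ g : H, g * g ≠ 1
  · right
    obtain ⟨f, hD⟩ := hB.exists_dih hex
    obtain ⟨F, E, i1, i2, i3, i4, i5, ψ, hrank, hiff⟩ := hD.exists_field hB hex
    refine ⟨F, E, i1, i2, i3, i4, i5, e0.symm.trans ψ.toEquiv, hrank, fun σ => ⟨?_, ?_⟩⟩
    · rintro ⟨g, rfl⟩
      obtain ⟨n, hn⟩ := hsurj (g • ω0)
      have hh : (n : G)⁻¹ * g ∈ H := hstab _ (by rw [mul_smul, ← hn, inv_smul_smul])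
      obtain ⟨a, φ, ha, hφ⟩ := (hiff fun v => (⟨_, hh⟩ : H) • v).1 ⟨⟨_, hh⟩, fun v => rfl⟩
      refine ⟨a, ψ (Additive.ofMul n), φ, ha, fun ω => ?_⟩
      obtain ⟨v, rfl⟩ := e0.surjective ω
      have h1 : toPermHom G Ω g (e0 v) = e0 (Additive.ofMul n + (⟨_, hh⟩ : H) • v) := by
        show g • ((v.toMul : G) • ω0) = _
        rw [he0, hadd, mul_smul, ← hact ⟨_, hh⟩ v]
        show g • _ = (n : G) • ((n : G)⁻¹ * g) • _
        rw [mul_smul, smul_inv_smul]
      rw [h1]
      simp only [Equiv.trans_apply, Equiv.symm_apply_apply, AddEquiv.toEquiv_eq_coe,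
        AddEquiv.coe_toEquiv, map_add, hφ]
      exact add_comm _ _
    · rintro ⟨a, b, φ, ha, hσ⟩
      obtain ⟨h, hh⟩ := (hiff fun v => ψ.symm (a * φ (ψ v))).2
        ⟨a, φ, ha, fun v => ψ.apply_symm_apply _⟩
      refine ⟨((ψ.symm b).toMul : G) * h, Equiv.ext fun ω => ?_⟩
      obtain ⟨v, rfl⟩ := e0.surjective ω
      have h1 := hσ (e0 v)
      simp only [Equiv.trans_apply, Equiv.symm_apply_apply, AddEquiv.toEquiv_eq_coe,
        AddEquiv.coe_toEquiv] at h1
      have h2 : σ (e0 v) = e0 (ψ.symm b + h • v) := by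
        apply e0.symm.injective
        apply ψ.injective
        rw [Equiv.symm_apply_apply, h1, map_add, hh, ψ.apply_symm_apply, ψ.apply_symm_apply,
          add_comm]
      rw [h2]
      show (((ψ.symm b).toMul : G) * h) • ((v.toMul : G) • ω0) = _
      rw [mul_smul, hact]
      rw [he0, hadd, mul_smul]
  · left
    push Not at hex
    haveI : Nontrivial V := by
      obtain ⟨a, ha1⟩ := Subgroup.ne_bot_iff_exists_ne_one.1 hN1
      exact ⟨⟨Additive.ofMul a, 0, fun h => ha1 (Additive.ofMul.injective h)⟩⟩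
    obtain ⟨h2, hcard⟩ := hB.small hex inferInstance
    have hΩ : Fintype.card Ω = p := by
      rw [← Nat.card_eq_fintype_card, ← Nat.card_congr e0, hcard]
    refine ⟨hΩ ▸ hp, fun ω => ?_⟩
    obtain ⟨g, hg⟩ := exists_smul_eq G ω0 ω
    rw [Nat.card_congr (stabilizerEquivStabilizer hg.symm).symm.toEquiv]
    exact h2

end Cfsg.Agent.BinAff
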