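import Cfsg.Agent.Lib.Perm.BinaryAffine.Odd
import Cfsg.Agent.Lib.Perm.BinaryAffine.Data
import Mathlib.LinearAlgebra.Matrix.Charpoly.FiniteField
import Mathlib.Order.ModularLattice

/-!
Binary linear groups in odd characteristic: the roots of a core form a spread; three
independent roots give a polarity without absolute points, which is impossible by a trace
computation; hence the core is trivial.
-/

set_option autoImplicit false

namespace Cfsg.Agent.BinAff

open scoped Classical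

variable (p : ℕ) [Fact p.Prime] (V : Type*) [AddCommGroup V] [Module (ZMod p) V]

/-- A root of half-dimensional size. -/
def IsHalf {H : Type*} [Group H] [DistribMulAction H V] (f : ℕ) (e : H) : Prop :=
  IsRoot p V e ∧ rk p V e = f

variable {p V} {H : Type*} [Group H] [DistribMulAction H V]
variable [Finite V] [Finite H] [FaithfulSMul H V] {f : ℕ} {C : Submodule (ZMod p) V}
variable (hB : Hyp p V H) (hp : p ≠ 2)

theorem IsHalf.conj {e : H} (he : IsHalf p V f e) (h : H) : IsHalf p V f (h * e * h⁻¹) :=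
  ⟨he.1.conj h, by rw [rk_conj, he.2]⟩

include hB hp

/-- The size parameter. -/
theorem exists_size (hex : ∃ g : H, g * g ≠ 1) : ∃ f, 0 < f ∧ MinMove p V H (2 * f) ∧
    ∃ C : Submodule (ZMod p) V, IsCore p V H (2 * f) C := by
  have h : ∃ k, ∃ g : H, g * g ≠ 1 ∧ rk p V g = k :=
    let ⟨g, hg⟩ := hex; ⟨_, g, hg, rfl⟩
  obtain ⟨g, hg2, hgk⟩ := Nat.find_spec h
  have hmin : MinMove p V H (Nat.find h) := fun j hj => Nat.find_min' h ⟨j, hj, rfl⟩
  have hC : IsCore p V H (Nat.find h) (Fx p V g) :=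
    ⟨hmin, by have := rk_add (p := p) (V := V) g; omega, g, hg2, le_rfl⟩
  obtain ⟨e, t, he, ht, hec, htc, hnc⟩ := hC.exists_pair hB hp
  have h2 := hC.two_mul_rk hB hp he ht hec htc hnc
  exact ⟨rk p V e, rk_pos he.1, h2.symm ▸ hmin, Fx p V g, h2.symm ▸ hC⟩

/-- Noncommuting half roots define a core. -/
theorem core_of_pair (hmin : MinMove p V H (2 * f)) {e t : H} (he : IsHalf p V f e)
    (ht : IsHalf p V f t) (hnc : ¬ Commute e t) :
    IsCore p V H (2 * f) (Fx p V e ⊓ Fx p V t) := by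
  have hg2 : e * t * (e * t) ≠ 1 := fun h => hnc (commute_of_sq he.1.sq ht.1.sq h)
  have hle : Fx p V e ⊓ Fx p V t ≤ Fx p V (e * t) := Fx_le_mul inf_le_left inf_le_right
  refine ⟨hmin, ?_, e * t, hg2, hle⟩
  have h1 := rk_le_of_le hle
  have h2 := hmin _ hg2
  have h8 := Submodule.finrank_sup_add_finrank_inf_eq (Fx p V e) (Fx p V t)
  have h9 := Submodule.finrank_le (Fx p V e ⊔ Fx p V t)
  have h10 := rk_add (p := p) (V := V) e
  have h11 := rk_add (p := p) (V := V) t
  rw [he.2] at h10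
  rw [ht.2] at h11
  omega

theorem pair_mem_fix {e t : H} : e ∈ fix p V H (Fx p V e ⊓ Fx p V t) ∧
    t ∈ fix p V H (Fx p V e ⊓ Fx p V t) :=
  ⟨mem_fix_iff_le.2 inf_le_left, mem_fix_iff_le.2 inf_le_right⟩

/-- Half roots are determined by a moved vector. -/
theorem eq_of_moved (hmin : MinMove p V H (2 * f)) {e t : H} (he : IsHalf p V f e)
    (ht : IsHalf p V f t) {x : V} (hx : x ≠ 0) (hxe : x ∈ Mv p V e) (hxt : x ∈ Mv p V t) :
    e = t := by
  by_contra hne
  by_cases hc : Commute e t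
  · exact hx (Submodule.disjoint_def.1 (hB.disjoint_Fx_Mv hp e) x
      ((hB.Mv_le_Fx_of_commute hp he.1 ht.1 hne hc).1 hxt) hxe)
  · obtain ⟨-, hd, -⟩ := (core_of_pair hB hp hmin he ht hc).pair hB hp he.1 ht.1
      (pair_mem_fix hB hp).1 (pair_mem_fix hB hp).2 hc
    exact hx (Submodule.disjoint_def.1 hd x hxe hxt)

variable (hC : IsCore p V H (2 * f) C)
include hC

theorem sup_plane : C ⊔ plane p V H C = ⊤ ∧
    Module.finrank (ZMod p) (plane p V H C) = 2 * f := by
  obtain ⟨e, t, he, ht, hec, htc, hnc⟩ := hC.exists_pair hB hp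
  obtain ⟨-, hd, hsum, hsup⟩ := hC.pair hB hp he ht hec htc hnc
  have h4 := Submodule.finrank_sup_add_finrank_inf_eq (Mv p V e) (Mv p V t)
  rw [hd.eq_bot, finrank_bot, hsup] at h4
  have h5 := hC.dim
  simp only [rk] at hsum
  exact ⟨Submodule.eq_top_of_disjoint _ _ (by omega) (hC.disjoint_plane hB hp), by omega⟩

theorem root_size {r : H} (hr : IsRoot p V r) (hrC : r ∈ fix p V H C) : IsHalf p V f r := by
  refine ⟨hr, ?_⟩
  obtain ⟨e, t, he, ht, hec, htc, hnc⟩ := hC.exists_pair hB hp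
  have key : ∀ u : H, IsRoot p V u → u ∈ fix p V H C → ¬ Commute r u → rk p V r = f :=
    fun u hu huC h => by have := hC.two_mul_rk hB hp hr hu hrC huC h; omega
  by_cases h1 : Commute r e
  · by_cases h2 : Commute r t
    · by_cases h3 : r = e
      · rw [h3]; have := hC.two_mul_rk hB hp he ht hec htc hnc; omega
      by_cases h4 : r = t
      · rw [h4]; have := hC.two_mul_rk hB hp ht he htc hec fun h => hnc h.symm; omega
      exfalso
      refine hr.1 (ext_of_spans (sup_plane hB hp hC).1 (mem_fix_iff_le.1 hrC) ?_)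
      obtain ⟨-, -, -, hsup⟩ := hC.pair hB hp he ht hec htc hnc
      rw [← hsup]
      exact sup_le (hB.Mv_le_Fx_of_commute hp hr he h3 h1).1
        (hB.Mv_le_Fx_of_commute hp hr ht h4 h2).1
    · exact key t ht htc h2
  · exact key e he hec h1

theorem smul_mem_plane {r : H} (hr : r ∈ fix p V H C) {x : V} (hx : x ∈ plane p V H C) :
    r • x ∈ plane p V H C := by
  rw [smul_add_eq r x]
  exact Submodule.add_mem _ hx (Mv_le_plane hr (sub_mem_Mv r x))

theorem finrank_Fx_inf_plane {r : H} (hr : IsHalf p V f r) (hrC : r ∈ fix p V H C) :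
    Module.finrank (ZMod p) ↥(Fx p V r ⊓ plane p V H C) = f := by
  have h1 : Mv p V r ⊔ Fx p V r ⊓ plane p V H C = plane p V H C := by
    rw [← sup_inf_assoc_of_le _ (Mv_le_plane hrC), sup_comm, hB.Fx_sup_Mv hp r, top_inf_eq]
  have h2 : Mv p V r ⊓ (Fx p V r ⊓ plane p V H C) = ⊥ :=
    ((hB.disjoint_Fx_Mv hp r).symm.mono_right inf_le_left).eq_bot
  have h3 := Submodule.finrank_sup_add_finrank_inf_eq (Mv p V r) (Fx p V r ⊓ plane p V H C)
  rw [h1, h2, finrank_bot, (sup_plane hB hp hC).2] at h3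
  have := hr.2
  simp only [rk] at this
  omega

/-- Two distinct roots of a core span the plane by moved spaces. -/
theorem sup_Mv_eq {r u : H} (hr : IsHalf p V f r) (hrC : r ∈ fix p V H C) (hu : IsHalf p V f u)
    (huC : u ∈ fix p V H C) (hne : r ≠ u) : Mv p V r ⊔ Mv p V u = plane p V H C := by
  refine Submodule.eq_of_le_of_finrank_le (sup_le (Mv_le_plane hrC) (Mv_le_plane huC)) ?_
  have hd : Mv p V r ⊓ Mv p V u = ⊥ := eq_bot_iff.2 fun x hx => by
    by_contra h0
    exact hne (eq_of_moved hB hp hC.min hr hu h0 hx.1 hx.2)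
  have h3 := Submodule.finrank_sup_add_finrank_inf_eq (Mv p V r) (Mv p V u)
  rw [hd, finrank_bot] at h3
  have := hr.2; have := hu.2; have := (sup_plane hB hp hC).2
  simp only [rk] at *
  omega

/-- A vector of the plane is fixed by exactly one root. -/
theorem eq_of_fixed {r u : H} (hr : IsHalf p V f r) (hrC : r ∈ fix p V H C) (hu : IsHalf p V f u)
    (huC : u ∈ fix p V H C) {x : V} (hx : x ≠ 0) (hxP : x ∈ plane p V H C) (hxr : r • x = x)
    (hxu : u • x = x) : r = u := by
  by_contra hne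
  by_cases hc : Commute r u
  · obtain ⟨h1, h2⟩ := hB.Mv_le_Fx_of_commute hp hr.1 hu.1 hne hc
    rw [← sup_Mv_eq hB hp hC hr hrC hu huC hne, Submodule.mem_sup] at hxP
    obtain ⟨a, ha, b, hb, rfl⟩ := hxP
    rw [smul_add, smul_eq_neg_of_mem_Mv hr.1.sq ha, mem_Fx.1 (h1 hb), add_left_inj,
      neg_eq_iff_add_eq_zero] at hxr
    rw [smul_add, smul_eq_neg_of_mem_Mv hu.1.sq hb, mem_Fx.1 (h2 ha), add_right_inj,
      neg_eq_iff_add_eq_zero] at hxu
    exact hx (by rw [self_add_eq_zero hp hxr, self_add_eq_zero hp hxu, add_zero])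
  · obtain ⟨h1, -⟩ := hC.pair hB hp hr.1 hu.1 hrC huC hc
    exact hx (Submodule.disjoint_def.1 (hC.disjoint_plane hB hp) x
      (h1 ▸ ⟨mem_Fx.2 hxr, mem_Fx.2 hxu⟩) hxP)

/-- Every vector of the plane is moved by a root of the core. -/
theorem exists_moved {x : V} (hx : x ∈ plane p V H C) :
    ∃ r : H, IsHalf p V f r ∧ r ∈ fix p V H C ∧ x ∈ Mv p V r := by
  haveI := Fintype.ofFinite H
  rcases eq_or_ne x 0 with rfl | hx0
  · obtain ⟨e, t, he, -, hec, -⟩ := hC.exists_pair hB hp
    exact ⟨e, root_size hB hp hC he hec, hec, Submodule.zero_mem _⟩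
  let R : Finset H := Finset.univ.filter fun r => IsHalf p V f r ∧ r ∈ fix p V H C
  have hR : ∀ r, r ∈ R ↔ IsHalf p V f r ∧ r ∈ fix p V H C := fun r => by simp [R]
  have hfix : R.biUnion (fun r => nz p V (Fx p V r ⊓ plane p V H C)) = nz p V (plane p V H C) := by
    ext y
    simp only [Finset.mem_biUnion, mem_nz, Submodule.mem_inf, hR]
    constructor
    · rintro ⟨r, -, ⟨-, hy⟩, hy0⟩; exact ⟨hy, hy0⟩
    · rintro ⟨hy, hy0⟩
      obtain ⟨r, hr, hrC, hry⟩ := hC.exists_root_fixing hB hp y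
      exact ⟨r, ⟨root_size hB hp hC hr hrC, hrC⟩, ⟨mem_Fx.2 hry, hy⟩, hy0⟩
  have hd1 : (R : Set H).PairwiseDisjoint fun r => nz p V (Fx p V r ⊓ plane p V H C) := by
    intro r hr u hu hne
    simp only [Function.onFun, Finset.disjoint_left, mem_nz, Submodule.mem_inf]
    rintro y ⟨⟨h1, h2⟩, h3⟩ ⟨⟨h4, -⟩, -⟩
    rw [Finset.mem_coe, hR] at hr hu
    exact hne (eq_of_fixed hB hp hC hr.1 hr.2 hu.1 hu.2 h3 h2 (mem_Fx.1 h1) (mem_Fx.1 h4))
  have hd2 : (R : Set H).PairwiseDisjoint fun r => nz p V (Mv p V r) := by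
    intro r hr u hu hne
    simp only [Function.onFun, Finset.disjoint_left, mem_nz]
    rintro y ⟨h1, h3⟩ ⟨h4, -⟩
    rw [Finset.mem_coe, hR] at hr hu
    exact hne (eq_of_moved hB hp hC.min hr.1 hu.1 h3 h1 h4)
  have hsub : R.biUnion (fun r => nz p V (Mv p V r)) ⊆ nz p V (plane p V H C) := by
    intro y
    simp only [Finset.mem_biUnion, mem_nz, hR]
    rintro ⟨r, ⟨-, hrC⟩, hy, hy0⟩
    exact ⟨Mv_le_plane hrC hy, hy0⟩
  have hcard : (nz p V (plane p V H C)).card ≤ (R.biUnion (fun r => nz p V (Mv p V r))).card := by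
    rw [← hfix, Finset.card_biUnion hd1, Finset.card_biUnion hd2]
    refine le_of_eq (Finset.sum_congr rfl fun r hr => ?_)
    rw [hR] at hr
    rw [card_nz, card_nz, finrank_Fx_inf_plane hB hp hC hr.1 hr.2]
    exact (congrArg (fun n => p ^ n - 1) hr.1.2).symm
  have hxm := (Finset.eq_of_subset_of_card_le hsub hcard).symm ▸ mem_nz.2 ⟨hx, hx0⟩
  simp only [Finset.mem_biUnion, mem_nz, hR] at hxm
  obtain ⟨r, ⟨hr, hrC⟩, hy, -⟩ := hxm
  exact ⟨r, hr, hrC, hy⟩

omit hC in
/-- A root fixing a vector moved by another root commutes with it. -/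
theorem commute_of_fixed_moved (hmin : MinMove p V H (2 * f)) {r u : H} (hu : IsHalf p V f u)
    {x : V} (hx : x ≠ 0) (hxu : x ∈ Mv p V u) (hxr : r • x = x) : Commute r u := by
  have h1 : x ∈ Mv p V (r * u * r⁻¹) := by
    have := (mem_Mv_conj (h := r)).2 hxu
    rwa [hxr] at this
  exact (eq_mul_inv_iff_mul_eq.1 (eq_of_moved hB hp hmin hu (hu.conj r) hx hxu h1)).symm

/-- No third root: a root outside the stabiliser of a core commutes with the roots inside. -/
theorem commute_of_not_mem {s : H} (hs : IsHalf p V f s) (hsC : s ∉ fix p V H C) {e : H}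
    (he : IsHalf p V f e) (heC : e ∈ fix p V H C) : Commute s e := by
  haveI := Fintype.ofFinite H
  by_contra hse
  set P := plane p V H C with hP
  set T := P ⊔ Mv p V s with hT
  have hPT : P ≤ T := le_sup_left
  have hsT : Mv p V s ≤ T := le_sup_right
  have hPs : P ⊓ Mv p V s = ⊥ := eq_bot_iff.2 fun x hx => by
    by_contra h0
    obtain ⟨r, hr, hrC, hxr⟩ := exists_moved hB hp hC hx.1
    exact hsC (eq_of_moved hB hp hC.min hs hr h0 hx.2 hxr ▸ hrC)
  have hTdim : Module.finrank (ZMod p) T = 3 * f := by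
    have h3 := Submodule.finrank_sup_add_finrank_inf_eq P (Mv p V s)
    rw [hPs, finrank_bot, ← hT] at h3
    have h4 : Module.finrank (ZMod p) P = 2 * f := (sup_plane hB hp hC).2
    have h5 : Module.finrank (ZMod p) (Mv p V s) = f := hs.2
    omega
  have key : ∀ y z : H, IsHalf p V f y → IsHalf p V f z → ¬ Commute y z → Mv p V y ≤ T →
      Mv p V z ≤ T → ∀ x ∈ Mv p V y ⊔ Mv p V z,
      ∃ w : H, IsHalf p V f w ∧ x ∈ Mv p V w ∧ Mv p V w ≤ T := by
    intro y z hy hz hyz hyT hzT x hx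
    have hC' := core_of_pair hB hp hC.min hy hz hyz
    obtain ⟨-, -, -, hsup⟩ := hC'.pair hB hp hy.1 hz.1 (pair_mem_fix hB hp).1
      (pair_mem_fix hB hp).2 hyz
    rw [hsup] at hx
    obtain ⟨w, hw, hwC, hxw⟩ := exists_moved hB hp hC' hx
    exact ⟨w, hw, hxw, (Mv_le_plane hwC).trans (hsup ▸ sup_le hyT hzT)⟩
  have hone : ∀ r u : H, IsHalf p V f r → r ∈ fix p V H C → IsHalf p V f u → u ∈ fix p V H C →
      Commute s r → Commute s u → r = u := by
    intro r u hr hrC hu huC h1 h2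
    by_contra hne
    have hsr : s ≠ r := fun h => hsC (h ▸ hrC)
    have hsu : s ≠ u := fun h => hsC (h ▸ huC)
    have hle : P ≤ Fx p V s := by
      rw [hP, ← sup_Mv_eq hB hp hC hr hrC hu huC hne]
      exact sup_le (hB.Mv_le_Fx_of_commute hp hs.1 hr.1 hsr h1).1
        (hB.Mv_le_Fx_of_commute hp hs.1 hu.1 hsu h2).1
    obtain ⟨m, hm, hm0⟩ := Submodule.exists_mem_ne_zero_of_ne_bot
      (show Mv p V e ≠ ⊥ from fun h => he.1.1 (Mv_eq_bot_iff.1 h))
    exact hse (commute_of_fixed_moved hB hp hC.min he hm0 hm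
      (mem_Fx.1 (hle (Mv_le_plane heC hm))))
  have gen : ∀ q ∈ P, ∀ m ∈ Mv p V s, (∀ r, IsHalf p V f r → r ∈ fix p V H C → q ∈ Mv p V r →
      ¬ Commute s r) → ∃ w : H, IsHalf p V f w ∧ q + m ∈ Mv p V w ∧ Mv p V w ≤ T := by
    intro q hq m hm hnc
    obtain ⟨r, hr, hrC, hqr⟩ := exists_moved hB hp hC hq
    refine key r s hr hs (fun h => hnc r hr hrC hqr h.symm) ((Mv_le_plane hrC).trans hPT) hsT _ ?_
    exact Submodule.add_mem_sup hqr hm
  have cover : ∀ x ∈ T, x ≠ 0 → ∃ w : H, IsHalf p V f w ∧ x ∈ Mv p V w ∧ Mv p V w ≤ T := by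
    intro x hx hx0
    obtain ⟨q, hq, m, hm, rfl⟩ := Submodule.mem_sup.1 hx
    rcases eq_or_ne m 0 with rfl | hm0
    · obtain ⟨r, hr, hrC, hqr⟩ := exists_moved hB hp hC hq
      exact ⟨r, hr, by rwa [add_zero], (Mv_le_plane hrC).trans hPT⟩
    rcases eq_or_ne q 0 with rfl | hq0
    · exact ⟨s, hs, by rwa [zero_add], hsT⟩
    obtain ⟨r, hr, hrC, hqr⟩ := exists_moved hB hp hC hq
    by_cases hsr : Commute s r
    swap
    · refine gen q hq m hm fun r' hr' _ hqr' => ?_
      rwa [eq_of_moved hB hp hC.min hr' hr hq0 hqr' hqr]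
    obtain ⟨p1, hp1, hp10⟩ := Submodule.exists_mem_ne_zero_of_ne_bot
      (show Mv p V e ≠ ⊥ from fun h => he.1.1 (Mv_eq_bot_iff.1 h))
    have hre : r ≠ e := fun h => hse (h ▸ hsr)
    have hmP : m ∉ P := fun h => hm0 ((Submodule.mem_bot (ZMod p)).1 (hPs ▸ ⟨h, hm⟩))
    by_contra hcon
    push Not at hcon
    have step : ∀ d ∈ Mv p V e, d ≠ 0 → e • (q + m + d) = q + m + d := by
      intro d hd hd0
      obtain ⟨y, hy, hxy, hyT⟩ := gen (q + d) (Submodule.add_mem _ hq (Mv_le_plane heC hd)) m hm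
        (fun r' hr' hr'C hqr' h => by
          have := hone r' r hr' hr'C hr hrC h hsr
          subst this
          have hd' : d ∈ Mv p V r' := by
            have := Submodule.sub_mem _ hqr' hqr
            rwa [add_sub_cancel_left] at this
          exact hre (eq_of_moved hB hp hC.min hr' he hd0 hd' hd))
      rw [show q + d + m = q + m + d by abel] at hxy
      by_cases hye : Commute y e
      · rcases eq_or_ne y e with rfl | hne
        · exfalso
          have h1 := Submodule.sub_mem _ (Submodule.sub_mem _ (Mv_le_plane heC hxy) hq)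
            (Mv_le_plane heC hd)
          rw [show q + m + d - q - d = m by abel] at h1
          exact hmP h1
        · exact mem_Fx.1 ((hB.Mv_le_Fx_of_commute hp he.1 hy.1 hne.symm hye.symm).1 hxy)
      · obtain ⟨w, hw, hxw, hwT⟩ := key y e hy he hye hyT ((Mv_le_plane heC).trans hPT) (q + m) (by
          rw [show q + m = (q + m + d) + -d by abel]
          exact Submodule.add_mem_sup hxy (Submodule.neg_mem _ hd))
        exact (hcon w hw hxw hwT).elim
    have h1 := step p1 hp1 hp10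
    have h2 := step (p1 + p1) (Submodule.add_mem _ hp1 hp1) fun h => hp10 (self_add_eq_zero hp h)
    rw [← add_assoc, smul_add, h1, add_right_inj, smul_eq_neg_of_mem_Mv he.1.sq hp1,
      neg_eq_iff_add_eq_zero] at h2
    exact hp10 (self_add_eq_zero hp h2)
  -- counting
  let R := {w : H // IsHalf p V f w ∧ Mv p V w ≤ T}
  haveI : Fintype R := Fintype.ofFinite R
  have hq1 : ((p ^ f : ℕ) : ZMod p) = 0 := by
    have hf0 : f ≠ 0 := fun h0 => by
      have := rk_pos (p := p) (V := V) he.1.1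
      rw [he.2] at this
      omega
    rw [Nat.cast_pow, ZMod.natCast_self, zero_pow hf0]
  have part : ∀ (X : Submodule (ZMod p) V) (Q : R → Prop) [DecidablePred Q], X ≤ T →
      (∀ w : R, Q w → Mv p V w.1 ≤ X) →
      (∀ w : R, ∀ x ∈ X, x ≠ 0 → x ∈ Mv p V w.1 → Q w) →
      (Finset.univ.filter Q).card * (p ^ f - 1) = p ^ Module.finrank (ZMod p) X - 1 := by
    intro X Q _ hXT h1 h2
    have heq : nz p V X = (Finset.univ.filter Q).biUnion (fun w => nz p V (Mv p V w.1)) := by
      ext x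
      simp only [Finset.mem_biUnion, mem_nz, Finset.mem_filter, Finset.mem_univ, true_and]
      constructor
      · rintro ⟨hx, hx0⟩
        obtain ⟨w, hw, hxw, hwT⟩ := cover x (hXT hx) hx0
        exact ⟨⟨w, hw, hwT⟩, h2 ⟨w, hw, hwT⟩ x hx hx0 hxw, hxw, hx0⟩
      · rintro ⟨w, hw, hxw, hx0⟩
        exact ⟨h1 w hw hxw, hx0⟩
    have hdj : ((Finset.univ.filter Q : Finset R) : Set R).PairwiseDisjoint
        fun w => nz p V (Mv p V w.1) := by
      intro a _ b _ hab
      simp only [Function.onFun, Finset.disjoint_left, mem_nz]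
      rintro y ⟨ha, hy0⟩ ⟨hb, -⟩
      exact hab (Subtype.ext (eq_of_moved hB hp hC.min a.2.1 b.2.1 hy0 ha hb))
    rw [← card_nz X, heq, Finset.card_biUnion hdj, Finset.sum_congr rfl
      (fun w _ => show (nz p V (Mv p V w.1)).card = p ^ f - 1 by
        rw [card_nz]; exact congrArg (fun n => p ^ n - 1) w.2.1.2), Finset.sum_const, smul_eq_mul]
  have cast1 : ∀ {c k : ℕ}, c * (p ^ f - 1) = p ^ (k * f) - 1 → 0 < k → (c : ZMod p) = 1 := by
    intro c k h hk
    have h1 : ((c * (p ^ f - 1) : ℕ) : ZMod p) = ((p ^ (k * f) - 1 : ℕ) : ZMod p) := by rw [h]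
    have h2 : ((p ^ (k * f) : ℕ) : ZMod p) = 0 := by
      rw [mul_comm, pow_mul, Nat.cast_pow, hq1, zero_pow hk.ne']
    rw [Nat.cast_mul, Nat.cast_sub (Nat.one_le_pow _ _ (Fact.out : p.Prime).pos),
      Nat.cast_sub (Nat.one_le_pow _ _ (Fact.out : p.Prime).pos), hq1, h2, Nat.cast_one, zero_sub,
      mul_neg, mul_one, neg_inj] at h1
    exact h1
  have hN : (Fintype.card R : ZMod p) = 1 := by
    refine cast1 (k := 3) ?_ (by norm_num)
    have h := part T (fun _ => True) le_rfl (fun w _ => w.2.2) (fun _ _ _ _ _ => trivial)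
    rw [hTdim] at h
    simpa using h
  have hinv : ∀ a : R, ∀ x ∈ T, a.1 • x ∈ T := fun a x hx => by
    rw [smul_add_eq a.1 x]
    exact Submodule.add_mem _ hx (a.2.2 (sub_mem_Mv _ _))
  have hdimW : ∀ a : R, Module.finrank (ZMod p) ↥(Fx p V a.1 ⊓ T) = 2 * f := by
    intro a
    have h1 : Mv p V a.1 ⊔ Fx p V a.1 ⊓ T = T := by
      rw [← sup_inf_assoc_of_le _ a.2.2, sup_comm, hB.Fx_sup_Mv hp a.1, top_inf_eq]
    have h2 : Mv p V a.1 ⊓ (Fx p V a.1 ⊓ T) = ⊥ :=
      ((hB.disjoint_Fx_Mv hp a.1).symm.mono_right inf_le_left).eq_bot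
    have h3 := Submodule.finrank_sup_add_finrank_inf_eq (Mv p V a.1) (Fx p V a.1 ⊓ T)
    rw [h1, h2, finrank_bot, hTdim] at h3
    have := a.2.1.2
    simp only [rk] at this
    omega
  let adj : R → R → Prop := fun a b => a ≠ b ∧ Commute a.1 b.1
  have hadjMv : ∀ a b : R, adj a b → Mv p V b.1 ≤ Fx p V a.1 ⊓ T := fun a b h =>
    le_inf (hB.Mv_le_Fx_of_commute hp a.2.1.1 b.2.1.1 (fun e' => h.1 (Subtype.ext e')) h.2).1 b.2.2
  have hadjX : ∀ a b : R, ∀ x ∈ Fx p V a.1, x ≠ 0 → x ∈ Mv p V b.1 → adj a b := by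
    intro a b x hx hx0 hxb
    refine ⟨?_, commute_of_fixed_moved hB hp hC.min b.2.1 hx0 hxb (mem_Fx.1 hx)⟩
    rintro rfl
    exact hx0 (Submodule.disjoint_def.1 (hB.disjoint_Fx_Mv hp _) x hx hxb)
  have hdeg : ∀ a : R, ((Finset.univ.filter fun b => adj a b).card : ZMod p) = 1 := fun a => by
    refine cast1 (k := 2) ?_ (by norm_num)
    have h := part (Fx p V a.1 ⊓ T) (fun b => adj a b) inf_le_right (fun b h => hadjMv a b h)
      (fun b x hx hx0 hxb => hadjX a b x hx.1 hx0 hxb)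
    rwa [hdimW a] at h
  have hcommon : ∀ a b : R, a ≠ b →
      ((Finset.univ.filter fun c => adj a c ∧ adj c b).card : ZMod p) = 1 := by
    intro a b hab
    refine cast1 (k := 1) ?_ Nat.one_pos
    set X := Fx p V a.1 ⊓ T ⊓ (Fx p V b.1 ⊓ T) with hX
    have h := part X (fun c => adj a c ∧ adj c b) (inf_le_left.trans inf_le_right)
      (fun c h => le_inf (hadjMv a c h.1) (hadjMv b c ⟨h.2.1.symm, h.2.2.symm⟩))
      (fun c x hx hx0 hxc => ⟨hadjX a c x hx.1.1 hx0 hxc,
        let h' := hadjX b c x hx.2.1 hx0 hxc; ⟨h'.1.symm, h'.2.symm⟩⟩)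
    rw [one_mul]
    suffices hXd : Module.finrank (ZMod p) X = f by rwa [hXd] at h
    have hab' : a.1 ≠ b.1 := fun e' => hab (Subtype.ext e')
    have h8 := Submodule.finrank_sup_add_finrank_inf_eq (Fx p V a.1 ⊓ T) (Fx p V b.1 ⊓ T)
    have h9 := Submodule.finrank_mono (sup_le inf_le_right inf_le_right :
      Fx p V a.1 ⊓ T ⊔ Fx p V b.1 ⊓ T ≤ T)
    rw [hdimW a, hdimW b, ← hX] at h8
    rw [hTdim] at h9
    have hMb := b.2.1.2
    simp only [rk] at hMb
    by_cases hc : Commute a.1 b.1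
    · have h1 := hadjMv a b ⟨hab, hc⟩
      have hd : X ⊓ Mv p V b.1 = ⊥ :=
        ((hB.disjoint_Fx_Mv hp b.1).mono_left (inf_le_right.trans inf_le_left)).eq_bot
      have h10 := Submodule.finrank_sup_add_finrank_inf_eq X (Mv p V b.1)
      have h11 := Submodule.finrank_mono (sup_le inf_le_left h1 : X ⊔ Mv p V b.1 ≤ Fx p V a.1 ⊓ T)
      rw [hd, finrank_bot] at h10
      rw [hdimW a] at h11
      omega
    · have hC' := core_of_pair hB hp hC.min a.2.1 b.2.1 hc
      obtain ⟨-, -, -, hsup⟩ := hC'.pair hB hp a.2.1.1 b.2.1.1 (pair_mem_fix hB hp).1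
        (pair_mem_fix hB hp).2 hc
      have hd : X ⊓ plane p V H (Fx p V a.1 ⊓ Fx p V b.1) = ⊥ :=
        ((hC'.disjoint_plane hB hp).mono_left
          (le_inf (inf_le_left.trans inf_le_left) (inf_le_right.trans inf_le_left))).eq_bot
      have h10 := Submodule.finrank_sup_add_finrank_inf_eq X
        (plane p V H (Fx p V a.1 ⊓ Fx p V b.1))
      have h11 : Module.finrank (ZMod p) ↥(X ⊔ plane p V H (Fx p V a.1 ⊓ Fx p V b.1)) ≤ 3 * f := by
        rw [← hTdim]
        refine Submodule.finrank_mono (sup_le (inf_le_left.trans inf_le_right) ?_)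
        rw [← hsup]
        exact sup_le a.2.2 b.2.2
      rw [hd, finrank_bot, (sup_plane hB hp hC').2] at h10
      omega
  -- the trace
  let A : Matrix R R (ZMod p) := Matrix.of fun a b => if adj a b then 1 else 0
  let J : Matrix R R (ZMod p) := Matrix.of fun _ _ => 1
  have hA2 : A * A = J := by
    ext a b
    have : (A * A) a b = ((Finset.univ.filter fun c => adj a c ∧ adj c b).card : ZMod p) := by
      rw [Finset.natCast_card_filter, Matrix.mul_apply]
      refine Finset.sum_congr rfl fun c _ => ?_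
      simp only [A, Matrix.of_apply]
      split_ifs <;> simp_all
    rw [this]
    rcases eq_or_ne a b with rfl | hab
    · have : (Finset.univ.filter fun c => adj a c ∧ adj c a) =
          Finset.univ.filter fun c => adj a c := by
        ext c
        simp only [Finset.mem_filter, Finset.mem_univ, true_and]
        exact ⟨fun h => h.1, fun h => ⟨h, h.1.symm, h.2.symm⟩⟩
      rw [this, hdeg a]; rfl
    · rw [hcommon a b hab]; rfl
  have hAJ : A * J = J := by
    ext a b
    refine Eq.trans ?_ (hdeg a)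
    rw [Finset.natCast_card_filter, Matrix.mul_apply]
    refine Finset.sum_congr rfl fun c _ => ?_
    simp only [A, J, Matrix.of_apply]
    split_ifs <;> simp_all
  have hpow : ∀ k : ℕ, A ^ (k + 2) = J := by
    intro k
    induction k with
    | zero => rw [pow_two, hA2]
    | succ k ih => rw [pow_succ', ih, hAJ]
  have h1 := ZMod.trace_pow_card A
  obtain ⟨k, hk⟩ := Nat.exists_eq_add_of_le (Fact.out : p.Prime).two_le
  rw [((congrArg (fun n => A ^ n) (hk.trans (add_comm _ _))).trans (hpow k) : A ^ p = J)] at h1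
  have hJ : Matrix.trace J = 1 := by
    simp only [Matrix.trace, Matrix.diag, J, Matrix.of_apply, Finset.sum_const, Finset.card_univ,
      nsmul_eq_mul, mul_one, hN]
  have hA : Matrix.trace A = 0 := by
    simp [Matrix.trace, Matrix.diag, A, adj]
  rw [hJ, hA, zero_pow (Fact.out : p.Prime).ne_zero] at h1
  exact one_ne_zero h1

end Cfsg.Agent.BinAff
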