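import Cfsg.Agent.Lib.Perm.BinaryAffine.Basic
import Mathlib.GroupTheory.Transfer
import Mathlib.GroupTheory.Sylow

/-!
Binary linear groups in characteristic two: no elements of order four, the pointwise
stabiliser of a core is generalised dihedral with one involution for each point of a spread.
-/

set_option autoImplicit false

namespace Cfsg.Agent.BinAff

variable {V : Type*} [AddCommGroup V] [Module (ZMod 2) V]
variable {H : Type*} [Group H] [DistribMulAction H V]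

/-- An involution with half-dimensional moved space. -/
def IsInv (V : Type*) [AddCommGroup V] [Module (ZMod 2) V] {H : Type*} [Group H]
    [DistribMulAction H V] (f : ℕ) (e : H) : Prop :=
  e ≠ 1 ∧ e * e = 1 ∧ rk 2 V e = f

/-- A fixed space of smallest possible codimension of an element of odd order. -/
structure IsCore2 (V : Type*) [AddCommGroup V] [Module (ZMod 2) V] (H : Type*) [Group H]
    [DistribMulAction H V] (m : ℕ) (C : Submodule (ZMod 2) V) : Prop where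
  min : ∀ g : H, g * g ≠ 1 → m ≤ rk 2 V g
  dim : Module.finrank (ZMod 2) C + m = Module.finrank (ZMod 2) V
  wit : ∃ g : H, g ≠ 1 ∧ Odd (orderOf g) ∧ Fx 2 V g = C

/-- The stabiliser of a core: a spread of involutions in an invariant complement. -/
structure IsLine (V : Type*) [AddCommGroup V] [Module (ZMod 2) V] (H : Type*) [Group H]
    [DistribMulAction H V] (f : ℕ) (C P : Submodule (ZMod 2) V) : Prop where
  compl : IsCompl C P
  dimP : Module.finrank (ZMod 2) P = 2 * f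
  mv_le : ∀ k ∈ fix 2 V H C, Mv 2 V k ≤ P
  invol : ∀ t ∈ fix 2 V H C, t ≠ 1 → t * t = 1 →
    IsInv V f t ∧ Fx 2 V t = C ⊔ Mv 2 V t
  cover : ∀ x ∈ P, x ≠ 0 → ∃ t ∈ fix 2 V H C, IsInv V f t ∧ x ∈ Mv 2 V t
  uniq : ∀ r ∈ fix 2 V H C, ∀ t ∈ fix 2 V H C, IsInv V f r → IsInv V f t →
    ∀ x ≠ (0 : V), x ∈ Mv 2 V r → x ∈ Mv 2 V t → r = t
  comm : ∀ r ∈ fix 2 V H C, ∀ t ∈ fix 2 V H C, IsInv V f r → IsInv V f t → Commute r t → r = t
  rot : ∀ r ∈ fix 2 V H C, ∀ t ∈ fix 2 V H C, IsInv V f r → IsInv V f t →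
    ∃ k ∈ fix 2 V H C, k * r * k⁻¹ = t
  reflect : ∀ g ∈ fix 2 V H C, ∀ t ∈ fix 2 V H C, IsInv V f t → ∀ x : V,
    g • x - x ∈ Mv 2 V t → g • x = x ∨ g • x = t • x

theorem sub_self_two (a b : V) : a - b = a + b := by
  rw [sub_eq_add_neg, ZModModule.neg_eq_self]

theorem commute_of_sq_two {g h : H} (hg : g * g = 1) (hh : h * h = 1) (hgh : g * h * (g * h) = 1) :
    Commute g h := by
  have : g * h = (g * h)⁻¹ := eq_inv_of_mul_eq_one_left hgh
  rw [mul_inv_rev, inv_eq_of_mul_eq_one_left hg, inv_eq_of_mul_eq_one_left hh] at this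
  exact this

theorem Mv_le_Fx_self {t : H} (ht : t * t = 1) : Mv 2 V t ≤ Fx 2 V t := by
  intro x hx
  obtain ⟨v, rfl⟩ := mem_Mv.1 hx
  rw [mem_Fx, smul_sub, smul_smul, ht, one_smul, sub_self_two, sub_self_two, add_comm]

theorem disjoint_of_odd {g : H} (hg : Odd (orderOf g)) : Disjoint (Fx 2 V g) (Mv 2 V g) := by
  rw [Submodule.disjoint_def]
  intro x hx hM
  have h := nsmul_eq_zero_of_mem (pow_orderOf_eq_one g) hx hM
  obtain ⟨k, hk⟩ := hg
  rwa [hk, succ_nsmul, mul_comm, mul_nsmul, two_nsmul, ZModModule.add_self, zero_add] at h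

theorem isCompl_of_odd [Finite V] {g : H} (hg : Odd (orderOf g)) :
    IsCompl (Fx 2 V g) (Mv 2 V g) := by
  refine ⟨disjoint_of_odd hg, ?_⟩
  rw [codisjoint_iff]
  refine Submodule.eq_top_of_disjoint _ _ ?_ (disjoint_of_odd hg)
  have := rk_add (p := 2) (V := V) g
  rw [rk] at this
  omega

theorem eq_one_of_odd {g : H} (hg : Odd (orderOf g)) (h2 : g * g = 1) : g = 1 := by
  have h : orderOf g ∣ 2 := orderOf_dvd_of_pow_eq_one (by rwa [pow_two])
  rcases (Nat.dvd_prime Nat.prime_two).1 h with h1 | h1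
  · exact orderOf_eq_one_iff.1 h1
  · rw [h1] at hg; exact absurd hg (by decide)

namespace Hyp

variable (hB : Hyp 2 V H)
include hB

/-- There are no elements of order four. -/
theorem sq_eq_one {g : H} [FaithfulSMul H V] (hg : g * g * (g * g) = 1) : g * g = 1 := by
  have hD : ∀ y : V, g • (g • y - y) - (g • y - y) = (g * g) • y - y := fun y => by
    rw [smul_sub, mul_smul]
    simp only [sub_self_two]
    rw [add_assoc, ← add_assoc (g • y), ZModModule.add_self, zero_add]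
  have key : ∀ y : V, (g * g) • (g • y - y) = g • y - y → (g * g) • y = y := by
    intro y hy
    have h := hB.urule (h := g * g) (g := g) (v := y) hy (by rw [← hD]; abel)
    rw [← sub_eq_zero, ← hD y, h, sub_self]
  refine FaithfulSMul.eq_of_smul_eq_smul (α := V) fun x => ?_
  rw [one_smul]
  refine key x (key (g • x - x) ?_)
  rw [hD x, smul_sub, smul_smul, hg, one_smul, sub_self_two, sub_self_two, add_comm]

variable [Finite H] [FaithfulSMul H V]

/-- Squares have odd order. -/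
theorem odd_orderOf_sq (g : H) : Odd (orderOf (g * g)) := by
  have h4 : ¬ 4 ∣ orderOf g := by
    rintro ⟨k, hk⟩
    have h := hB.sq_eq_one (g := g ^ k) (by
      rw [← pow_add, ← pow_add, show k + k + (k + k) = orderOf g by omega, pow_orderOf_eq_one])
    rw [← pow_add] at h
    have h1 := Nat.le_of_dvd (by have := orderOf_pos g; omega) (orderOf_dvd_of_pow_eq_one h)
    have := orderOf_pos g
    omega
  rw [← pow_two]
  rcases Nat.even_or_odd (orderOf g) with ⟨m, hm⟩ | ho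
  · have h2 : (g ^ 2) ^ m = 1 := by
      rw [← pow_mul, two_mul, ← hm, pow_orderOf_eq_one]
    have hm' : Odd m := by
      rw [← Nat.not_even_iff_odd]
      rintro ⟨k, rfl⟩
      exact h4 ⟨k, by omega⟩
    exact hm'.of_dvd_nat (orderOf_dvd_of_pow_eq_one h2)
  · exact ho.of_dvd_nat (orderOf_pow_dvd 2)

/-- An odd power is an involution or trivial. -/
theorem exists_pow_sq (k : H) : ∃ i : ℕ, k * (k * k) ^ i * (k * (k * k) ^ i) = 1 := by
  obtain ⟨i, hi⟩ := hB.odd_orderOf_sq k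
  refine ⟨i, ?_⟩
  have h1 : k * (k * k) ^ i = k ^ (2 * i + 1) := by
    rw [pow_succ', pow_mul, pow_two]
  rw [h1, ← pow_add, show 2 * i + 1 + (2 * i + 1) = 2 * (2 * i + 1) by omega, pow_mul, pow_two,
    ← hi, pow_orderOf_eq_one]

omit [Finite H] [FaithfulSMul H V] in
/-- Commuting involutions fix each other's moved spaces. -/
theorem Mv_le_Fx_of_commute2 {g h : H} (hg : g * g = 1) (hc : Commute h g) :
    Mv 2 V g ≤ Fx 2 V h := by
  intro m hm
  obtain ⟨v, hv⟩ := mem_Mv.1 (Submodule.sub_mem _ (smul_mem_Mv_of_comm hc hm) hm)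
  exact mem_Fx.2 (hB.urule (h := g) (g := h) (v := v) (mem_Fx.1 (Mv_le_Fx_self hg hm))
    (by rw [hv]; abel))

/-- An inverting involution fixing a vector. -/
theorem exists_inverter {S : Submodule (ZMod 2) V} {g : H} (hg : g ∈ fix 2 V H S) (x : V) :
    ∃ t ∈ fix 2 V H S, t * t = 1 ∧ t • x = x ∧
      ∀ c ∈ Subgroup.zpowers g, t • (c • x) = c⁻¹ • x := by
  obtain ⟨k, hk, hkx, hkc⟩ := hB.inv hg x
  obtain ⟨i, hi⟩ := hB.exists_pow_sq k
  have hk2 : ∀ c ∈ Subgroup.zpowers g, ∀ j : ℕ, (k * k) ^ j • (c • x) = c • x := by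
    intro c hc j
    induction j with
    | zero => simp
    | succ j ih =>
      rw [pow_succ, mul_smul, mul_smul, hkc c hc, hkc _ (inv_mem hc), inv_inv, ih]
  refine ⟨k * (k * k) ^ i, mul_mem hk (pow_mem (mul_mem hk hk) i), hi, ?_, fun c hc => ?_⟩
  · have := hk2 1 (one_mem _) i
    rw [one_smul] at this
    rw [mul_smul, this, hkx]
  · rw [mul_smul, hk2 c hc i, hkc c hc]

/-- A swapping involution. -/
theorem exists_swapper {S : Submodule (ZMod 2) V} {g : H} (hg : g ∈ fix 2 V H S) (x : V) :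
    ∃ t ∈ fix 2 V H S, t * t = 1 ∧ t • x = g • x := by
  obtain ⟨k, hk, h1, h2⟩ := hB.swap hg x
  obtain ⟨i, hi⟩ := hB.exists_pow_sq k
  have hk2 : ∀ j : ℕ, (k * k) ^ j • x = x := by
    intro j
    induction j with
    | zero => simp
    | succ j ih => rw [pow_succ, mul_smul, mul_smul, h1, h2, ih]
  exact ⟨k * (k * k) ^ i, mul_mem hk (pow_mem (mul_mem hk hk) i), hi,
    by rw [mul_smul, hk2, h1]⟩

end Hyp

namespace IsCore2

variable {m : ℕ} {C : Submodule (ZMod 2) V} (hC : IsCore2 V H m C) (hB : Hyp 2 V H)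
variable [Finite V] [Finite H] [FaithfulSMul H V]
include hC hB

/-- Two noncommuting involutions in the stabiliser of a core are half-dimensional. -/
theorem half {t u : H} (ht : t * t = 1) (hu : u * u = 1) (htC : t ∈ fix 2 V H C)
    (huC : u ∈ fix 2 V H C) (hnc : ¬ Commute t u) :
    2 * rk 2 V t = m ∧ Fx 2 V t = C ⊔ Mv 2 V t ∧ C ⊔ Mv 2 V t ⊔ Mv 2 V u = ⊤ ∧
      Fx 2 V t ⊓ Fx 2 V u = C := by
  set w := t * u with hw
  set z := w * w with hz
  have hz2 : z * z ≠ 1 := fun h =>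
    hnc (commute_of_sq_two ht hu (hB.sq_eq_one (g := w) h))
  have hle : C ≤ Fx 2 V t ⊓ Fx 2 V u := le_inf (mem_fix_iff_le.1 htC) (mem_fix_iff_le.1 huC)
  have hleW : Fx 2 V t ⊓ Fx 2 V u ≤ Fx 2 V w := Fx_le_mul inf_le_left inf_le_right
  have hleZ : Fx 2 V t ⊓ Fx 2 V u ≤ Fx 2 V z := Fx_le_mul hleW hleW
  have hm := hC.min z hz2
  have h1 := rk_add (p := 2) (V := V) z
  have h2 := Submodule.finrank_mono hle
  have h3 := Submodule.finrank_mono hleZ
  have hdim := hC.dim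
  have hFz : C = Fx 2 V z :=
    Submodule.eq_of_le_of_finrank_le (hle.trans hleZ) (by omega)
  have hFtu : Fx 2 V t ⊓ Fx 2 V u = C := le_antisymm (hleZ.trans hFz.ge) hle
  have hcz : IsCompl C (Mv 2 V z) := hFz ▸ isCompl_of_odd (hB.odd_orderOf_sq w)
  have hti : t⁻¹ = t := inv_eq_of_mul_eq_one_left ht
  have hui : u⁻¹ = u := inv_eq_of_mul_eq_one_left hu
  have hinv : ∀ s : H, s * z * s⁻¹ = z⁻¹ → s ∈ fix 2 V H C → Mv 2 V s ≤ Mv 2 V z := by
    intro s hs hsC x hx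
    obtain ⟨v, rfl⟩ := mem_Mv.1 hx
    obtain ⟨c, hc, q, hq, rfl⟩ := Submodule.mem_sup.1 (hcz.sup_eq_top ▸ Submodule.mem_top : v ∈ _)
    have h1 : s • q ∈ Mv 2 V z⁻¹ := by rw [← hs]; exact mem_Mv_conj.2 hq
    have h2 : Mv 2 V z⁻¹ ≤ Mv 2 V z := by
      intro y hy
      obtain ⟨v, rfl⟩ := mem_Mv.1 hy
      have := Submodule.neg_mem _ (sub_mem_Mv (p := 2) z (z⁻¹ • v))
      rwa [smul_inv_smul, neg_sub] at this
    rw [smul_add, mem_fix.1 hsC c hc, add_sub_add_left_eq_sub]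
    exact Submodule.sub_mem _ (h2 h1) hq
  have hzinv : z⁻¹ = u * t * (u * t) := by
    rw [hz, hw, mul_inv_rev, mul_inv_rev, hti, hui]
  have hMt : Mv 2 V t ≤ Mv 2 V z := hinv t (by
    rw [hzinv, hz, hw, hti]
    rw [show t * (t * u * (t * u)) * t = (t * t) * u * t * u * t by group, ht, one_mul]
    simp only [mul_assoc]) htC
  have hMu : Mv 2 V u ≤ Mv 2 V z := hinv u (by
    rw [hzinv, hz, hw, hui]
    rw [show u * (t * u * (t * u)) * u = u * t * u * t * (u * u) by group, hu, mul_one]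
    simp only [mul_assoc]) huC
  set P := Mv 2 V z with hP
  have hPdim : Module.finrank (ZMod 2) P = m := by
    have h4 := Submodule.finrank_sup_add_finrank_inf_eq C P
    rw [hcz.sup_eq_top, hcz.inf_eq_bot, finrank_top, finrank_bot] at h4
    omega
  have hdec : ∀ s : H, s ∈ fix 2 V H C → Fx 2 V s = C ⊔ Fx 2 V s ⊓ P := by
    intro s hs
    rw [inf_comm, ← sup_inf_assoc_of_le _ (mem_fix_iff_le.1 hs), hcz.sup_eq_top, top_inf_eq]
  have hdimX : ∀ s : H, s ∈ fix 2 V H C →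
      rk 2 V s + Module.finrank (ZMod 2) ↥(Fx 2 V s ⊓ P) = m := by
    intro s hs
    have h4 := Submodule.finrank_sup_add_finrank_inf_eq C (Fx 2 V s ⊓ P)
    rw [← hdec s hs, (hcz.disjoint.mono_right inf_le_right).eq_bot, finrank_bot] at h4
    have := rk_add (p := 2) (V := V) s
    omega
  have hXY : (Fx 2 V t ⊓ P) ⊓ (Fx 2 V u ⊓ P) = ⊥ := eq_bot_iff.2 fun x hx =>
    (Submodule.mem_bot _).2 (Submodule.disjoint_def.1 hcz.disjoint x
      (hFtu ▸ ⟨hx.1.1, hx.2.1⟩) hx.1.2)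
  have h5 := Submodule.finrank_sup_add_finrank_inf_eq (Fx 2 V t ⊓ P) (Fx 2 V u ⊓ P)
  rw [hXY, finrank_bot] at h5
  have h6 := Submodule.finrank_mono (sup_le inf_le_right inf_le_right :
    Fx 2 V t ⊓ P ⊔ Fx 2 V u ⊓ P ≤ P)
  have hXt : Mv 2 V t ≤ Fx 2 V t ⊓ P := le_inf (Mv_le_Fx_self ht) hMt
  have hYu : Mv 2 V u ≤ Fx 2 V u ⊓ P := le_inf (Mv_le_Fx_self hu) hMu
  have h7 := Submodule.finrank_mono hXt
  have h8 := Submodule.finrank_mono hYu
  have h9 := hdimX t htC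
  have h10 := hdimX u huC
  simp only [rk] at *
  have ht_eq : Mv 2 V t = Fx 2 V t ⊓ P := Submodule.eq_of_le_of_finrank_le hXt (by omega)
  have hu_eq : Mv 2 V u = Fx 2 V u ⊓ P := Submodule.eq_of_le_of_finrank_le hYu (by omega)
  have hsum : Mv 2 V t ⊔ Mv 2 V u = P := Submodule.eq_of_le_of_finrank_le (sup_le hMt hMu) (by
    rw [ht_eq, hu_eq]; omega)
  exact ⟨by omega, (hdec t htC).trans (by rw [← ht_eq]), by rw [sup_assoc, hsum, hcz.sup_eq_top],
    hFtu⟩

/-- Existence of noncommuting involutions. -/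
theorem exists_pair_fixing {x : V} (hx : x ∉ C) : ∃ t u : H, t * t = 1 ∧ u * u = 1 ∧
    t ∈ fix 2 V H C ∧ u ∈ fix 2 V H C ∧ ¬ Commute t u ∧ t • x = x := by
  obtain ⟨g, hg1, hgo, hgC⟩ := hC.wit
  have hgf : g ∈ fix 2 V H C := mem_fix_iff_le.2 hgC.ge
  obtain ⟨t, ht, ht2, htx, hti⟩ := hB.exists_inverter hgf x
  refine ⟨t, g * t * g⁻¹, ht2, ?_, ht, mul_mem (mul_mem hgf ht) (inv_mem hgf), ?_, htx⟩
  · rw [show g * t * g⁻¹ * (g * t * g⁻¹) = g * (t * t) * g⁻¹ by group, ht2, mul_one,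
      mul_inv_cancel]
  intro hc
  have hw : ∀ c ∈ Subgroup.zpowers g,
      (t * (g * t * g⁻¹)) • (c • x) = (g⁻¹ * g⁻¹ * c) • x := by
    intro c hc'
    obtain ⟨i, rfl⟩ := Subgroup.mem_zpowers_iff.1 hc'
    rw [mul_smul, mul_smul, mul_smul, smul_smul g⁻¹ (g ^ i), ← zpow_neg_one, ← zpow_add,
      hti _ (Subgroup.zpow_mem _ (Subgroup.mem_zpowers g) _), smul_smul g,
      ← zpow_neg, ← zpow_one_add, hti _ (Subgroup.zpow_mem _ (Subgroup.mem_zpowers g) _),
      ← zpow_neg, ← zpow_add, ← zpow_add]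
    congr 1
    ring_nf
  have h1 := hw 1 (one_mem _)
  rw [one_smul, mul_one] at h1
  have h2 : (t * (g * t * g⁻¹)) • ((g⁻¹ * g⁻¹) • x) = (g⁻¹ * g⁻¹ * (g⁻¹ * g⁻¹)) • x :=
    hw _ (mul_mem (inv_mem (Subgroup.mem_zpowers g)) (inv_mem (Subgroup.mem_zpowers g)))
  rw [← h1, smul_smul, show t * (g * t * g⁻¹) * (t * (g * t * g⁻¹)) = 1 by
    rw [show t * (g * t * g⁻¹) * (t * (g * t * g⁻¹)) =
      t * ((g * t * g⁻¹) * t) * (g * t * g⁻¹) by group, ← hc.eq,
      show t * (t * (g * t * g⁻¹)) * (g * t * g⁻¹) = (t * t) * g * (t * t) * g⁻¹ by group,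
      ht2, one_mul, mul_one, mul_inv_cancel], one_smul] at h2
  -- `x` is fixed by `g⁴`, hence by `g`
  obtain ⟨k, hk⟩ := hgo
  have h4 : g ^ 4 • x = x := by
    have h3 := congrArg (g ^ 4 • ·) h2
    simp only [smul_smul] at h3
    rwa [show g ^ 4 * (g⁻¹ * g⁻¹ * (g⁻¹ * g⁻¹)) = 1 by group, one_smul] at h3
  have hst : g ∈ MulAction.stabilizer H x := by
    have hmem : g ^ 4 ∈ MulAction.stabilizer H x := h4
    have h5 : (g ^ 4) ^ (k + 1) = g * g ^ (2 * k + 1) * g ^ (2 * k + 1) * g := by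
      rw [← pow_mul, mul_assoc g, ← pow_add, ← pow_succ', ← pow_succ]; congr 1; omega
    rw [← hk, pow_orderOf_eq_one, mul_one, mul_one] at h5
    have h6 : g * g ∈ MulAction.stabilizer H x := h5 ▸ pow_mem hmem _
    have h7 : (g * g) ^ (k + 1) = g := by
      rw [← pow_two, ← pow_mul, show 2 * (k + 1) = 2 * k + 1 + 1 by omega, pow_succ', ← hk,
        pow_orderOf_eq_one, mul_one]
    exact h7 ▸ pow_mem h6 _
  exact hx (hgC ▸ mem_Fx.2 hst)

theorem exists_not_mem : ∃ x : V, x ∉ C := by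
  obtain ⟨g, hg1, -, hgC⟩ := hC.wit
  by_contra h
  push Not at h
  exact hg1 (Fx_eq_top_iff.1 (hgC.trans (eq_top_iff.2 fun x _ => h x)))

end IsCore2

variable [Finite V] [Finite H] [FaithfulSMul H V] (hB : Hyp 2 V H)
include hB

/-- The size parameter in characteristic two. -/
theorem exists_size_two (hex : ∃ g : H, g * g ≠ 1) :
    ∃ f, 0 < f ∧ ∃ C : Submodule (ZMod 2) V, IsCore2 V H (2 * f) C := by
  classical
  have h : ∃ k, ∃ g : H, g * g ≠ 1 ∧ rk 2 V g = k :=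
    let ⟨g, hg⟩ := hex; ⟨_, g, hg, rfl⟩
  obtain ⟨g, hg2, hgk⟩ := Nat.find_spec h
  have hmin : ∀ j : H, j * j ≠ 1 → Nat.find h ≤ rk 2 V j := fun j hj =>
    Nat.find_min' h ⟨j, hj, rfl⟩
  have hC : IsCore2 V H (Nat.find h) (Fx 2 V (g * g)) := by
    refine ⟨hmin, ?_, g * g, hg2, hB.odd_orderOf_sq g, rfl⟩
    have h1 := hmin (g * g) fun h4 => hg2 (hB.sq_eq_one h4)
    have h2 := Submodule.finrank_mono (Fx_le_mul (p := 2) (V := V) (g := g) (h := g) le_rfl le_rfl)
    have h3 := rk_add (p := 2) (V := V) g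
    have h4 := rk_add (p := 2) (V := V) (g * g)
    omega
  obtain ⟨x, hx⟩ := hC.exists_not_mem hB
  obtain ⟨t, u, ht, hu, htC, huC, hnc, -⟩ := hC.exists_pair_fixing hB hx
  obtain ⟨h1, -⟩ := hC.half hB ht hu htC huC hnc
  refine ⟨rk 2 V t, rk_pos ?_, _, h1.symm ▸ hC⟩
  rintro rfl
  exact hnc (Commute.one_left u)

variable {f : ℕ} (hmin : ∀ g : H, g * g ≠ 1 → 2 * f ≤ rk 2 V g)
include hmin

/-- Involutions move at least a half-dimensional space. -/
theorem le_rk_invol (hV : (⊥ : Submodule (ZMod 2) V) ≠ ⊤) {j : H} (hj : j * j = 1) (hj1 : j ≠ 1) :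
    f ≤ rk 2 V j := by
  haveI := Fintype.ofFinite H
  by_contra hlt
  push Not at hlt
  have hcc : ∀ h h' : H, Commute (h * j * h⁻¹) (h' * j * h'⁻¹) := by
    intro h h'
    have hsq : ∀ h : H, h * j * h⁻¹ * (h * j * h⁻¹) = 1 := fun h => by
      rw [show h * j * h⁻¹ * (h * j * h⁻¹) = h * (j * j) * h⁻¹ by group, hj, mul_one,
        mul_inv_cancel]
    refine commute_of_sq_two (hsq h) (hsq h') ?_
    by_contra hne
    have h1 := hmin _ fun h2 => hne (hB.sq_eq_one h2)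
    have hz : Fx 2 V (h * j * h⁻¹) ⊓ Fx 2 V (h' * j * h'⁻¹) ≤
        Fx 2 V (h * j * h⁻¹ * (h' * j * h'⁻¹) * (h * j * h⁻¹ * (h' * j * h'⁻¹))) :=
      Fx_le_mul (Fx_le_mul inf_le_left inf_le_right) (Fx_le_mul inf_le_left inf_le_right)
    have h2 := rk_le_of_le hz
    have h3 := Submodule.finrank_sup_add_finrank_inf_eq (Fx 2 V (h * j * h⁻¹))
      (Fx 2 V (h' * j * h'⁻¹))
    have h4 := Submodule.finrank_le (Fx 2 V (h * j * h⁻¹) ⊔ Fx 2 V (h' * j * h'⁻¹))
    have h5 := rk_add (p := 2) (V := V) (h * j * h⁻¹)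
    have h6 := rk_add (p := 2) (V := V) (h' * j * h'⁻¹)
    rw [rk_conj] at h5 h6
    omega
  have hex : ∀ E : Finset H, (∀ h ∈ E, ∀ h' ∈ E, Commute h h') → (∀ h ∈ E, h * h = 1) →
      ∃ x : V, x ≠ 0 ∧ ∀ h ∈ E, h • x = x := by
    classical
    intro E
    induction E using Finset.induction_on with
    | empty =>
      intro _ _
      obtain ⟨x, -, hx⟩ := Submodule.exists_mem_ne_zero_of_ne_bot hV.symm
      exact ⟨x, hx, by simp⟩
    | insert e E hnot ih =>
      intro hcm hsq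
      obtain ⟨x, hx0, hx⟩ := ih
        (fun h hh h' hh' => hcm h (Finset.mem_insert_of_mem hh) h' (Finset.mem_insert_of_mem hh'))
        (fun h hh => hsq h (Finset.mem_insert_of_mem hh))
      by_cases hex : e • x = x
      · exact ⟨x, hx0, fun h hh => (Finset.mem_insert.1 hh).elim (fun e' => e' ▸ hex) (hx h)⟩
      · refine ⟨e • x - x, sub_ne_zero.2 hex, fun h hh => ?_⟩
        rcases Finset.mem_insert.1 hh with rfl | hhE
        · exact mem_Fx.1 (Mv_le_Fx_self (hsq h hh) (sub_mem_Mv (p := 2) h x))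
        · rw [smul_sub, smul_smul, (hcm h hh e (Finset.mem_insert_self e E)).eq, mul_smul,
            hx h hhE]
  classical
  obtain ⟨x, hx0, hx⟩ := hex (Finset.univ.image fun h => h * j * h⁻¹)
    (by simp only [Finset.mem_image, Finset.mem_univ, true_and]
        rintro _ ⟨a, rfl⟩ _ ⟨b, rfl⟩; exact hcc a b)
    (by simp only [Finset.mem_image, Finset.mem_univ, true_and]
        rintro _ ⟨a, rfl⟩
        rw [show a * j * a⁻¹ * (a * j * a⁻¹) = a * (j * j) * a⁻¹ by group, hj, mul_one,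
          mul_inv_cancel])
  rcases hB.iInf_Fx_conj j with h1 | h1
  · refine hx0 ((Submodule.mem_bot (ZMod 2)).1 (h1 ▸ Submodule.mem_iInf _ |>.2 fun h => ?_))
    exact mem_Fx.2 (hx _ (Finset.mem_image_of_mem _ (Finset.mem_univ h)))
  · refine hj1 ((Fx_eq_top_iff (p := 2) (V := V)).1 (top_le_iff.1 ?_))
    rw [← h1]
    exact (iInf_le (fun h : H => Fx 2 V (h * j * h⁻¹)) 1).trans (by simp)

end Cfsg.Agent.BinAff
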