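import Cfsg.Agent.Lib.Perm.BinaryAffine.Two

/-!
Binary linear groups in characteristic two: the stabiliser of a core has self-normalising
elementary abelian Sylow two-subgroups, hence by Burnside transfer an inverted odd kernel and
Sylow subgroups of order two.
-/

set_option autoImplicit false

namespace Cfsg.Agent.BinAff

variable {V : Type*} [AddCommGroup V] [Module (ZMod 2) V]
variable {H : Type*} [Group H] [DistribMulAction H V]
variable [Finite V] [Finite H] [FaithfulSMul H V] {f : ℕ} {C : Submodule (ZMod 2) V}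

namespace IsCore2

variable (hC : IsCore2 V H (2 * f) C) (hB : Hyp 2 V H) (hf : 0 < f)
include hC hB hf

theorem sq_of_large {S : Submodule (ZMod 2) V}
    (hS : Module.finrank (ZMod 2) C < Module.finrank (ZMod 2) S) {k : H}
    (hk : k ∈ fix 2 V H S) : k * k = 1 := by
  by_contra h
  have h1 := hC.min k h
  have h2 := rk_le_of_le (mem_fix_iff_le.1 hk)
  have := hC.dim
  omega

theorem sq_of_fixing {k : H} (hk : k ∈ fix 2 V H C) {x : V} (hx : x ∉ C) (hkx : k • x = x) :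
    k * k = 1 := by
  refine hC.sq_of_large hB hf (S := C ⊔ Submodule.span (ZMod 2) {x})
    (Submodule.finrank_lt_finrank_of_lt (left_lt_sup.2 ?_))
    (mem_fix_iff_le.2 (sup_le (mem_fix_iff_le.1 hk)
      ((Submodule.span_singleton_le_iff_mem _ _).2 (mem_Fx.2 hkx))))
  exact fun h => hx (h (Submodule.mem_span_singleton_self x))

theorem commute_of_fixing {j k : H} (hj : j ∈ fix 2 V H C) (hk : k ∈ fix 2 V H C) {x : V}
    (hx : x ∉ C) (hjx : j • x = x) (hkx : k • x = x) : Commute j k :=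
  commute_of_sq_two (hC.sq_of_fixing hB hf hj hx hjx) (hC.sq_of_fixing hB hf hk hx hkx)
    (hC.sq_of_fixing hB hf (mul_mem hj hk) hx (by rw [mul_smul, hkx, hjx]))

theorem bot_ne_top : (⊥ : Submodule (ZMod 2) V) ≠ ⊤ := fun h => by
  have h1 := hC.dim
  rw [← finrank_top (R := ZMod 2) (M := V), ← h, finrank_bot] at h1
  omega

theorem invol {j : H} (hj : j ∈ fix 2 V H C) (hj1 : j ≠ 1) (hj2 : j * j = 1) :
    IsInv V f j ∧ Fx 2 V j = C ⊔ Mv 2 V j ∧ Disjoint C (Mv 2 V j) := by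
  obtain ⟨x, hx⟩ := hC.exists_not_mem hB
  obtain ⟨t, u, ht, hu, htC, huC, hnc, -⟩ := hC.exists_pair_fixing hB hx
  obtain ⟨-, -, htop, -⟩ := hC.half hB ht hu htC huC hnc
  have key : ∀ s : H, s ∈ fix 2 V H C → s * s = 1 → ¬ Commute j s →
      IsInv V f j ∧ Fx 2 V j = C ⊔ Mv 2 V j ∧ Disjoint C (Mv 2 V j) := by
    intro s hs hs2 hns
    obtain ⟨h1, h2, -, -⟩ := hC.half hB hj2 hs2 hj hs hns
    refine ⟨⟨hj1, hj2, by omega⟩, h2, ?_⟩
    have h3 := Submodule.finrank_sup_add_finrank_inf_eq C (Mv 2 V j)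
    have h4 := rk_add (p := 2) (V := V) j
    have h5 := hC.dim
    rw [← h2] at h3
    simp only [rk] at *
    exact disjoint_iff.2 (Submodule.finrank_eq_zero.1 (by omega))
  by_cases h1 : Commute j t
  · by_cases h2 : Commute j u
    · refine absurd ((Fx_eq_top_iff (p := 2) (V := V)).1 (top_le_iff.1 ?_)) hj1
      rw [← htop]
      exact sup_le (sup_le (mem_fix_iff_le.1 hj) (hB.Mv_le_Fx_of_commute2 ht h1))
        (hB.Mv_le_Fx_of_commute2 hu h2)
    · exact key u huC hu h2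
  · exact key t htC ht h1

theorem Fx_eq_of_le {j t : H} (hj : j ∈ fix 2 V H C) (hj1 : j ≠ 1) (hj2 : j * j = 1)
    (ht : t ∈ fix 2 V H C) (ht1 : t ≠ 1) (ht2 : t * t = 1) (hle : Fx 2 V t ≤ Fx 2 V j) :
    Fx 2 V t = Fx 2 V j := by
  refine Submodule.eq_of_le_of_finrank_le hle ?_
  have h1 := rk_add (p := 2) (V := V) t
  have h2 := rk_add (p := 2) (V := V) j
  rw [(hC.invol hB hf ht ht1 ht2).1.2.2] at h1
  rw [(hC.invol hB hf hj hj1 hj2).1.2.2] at h2
  omega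

theorem Fx_eq_of_commute {j t : H} (hj : j ∈ fix 2 V H C) (hj1 : j ≠ 1) (hj2 : j * j = 1)
    (ht : t ∈ fix 2 V H C) (ht1 : t ≠ 1) (ht2 : t * t = 1) (hc : Commute j t) :
    Fx 2 V t = Fx 2 V j := by
  refine hC.Fx_eq_of_le hB hf hj hj1 hj2 ht ht1 ht2 ?_
  rw [(hC.invol hB hf ht ht1 ht2).2.1]
  exact sup_le (mem_fix_iff_le.1 hj) (hB.Mv_le_Fx_of_commute2 ht2 hc)

theorem exists_Mv_ne {t : H} (ht : t ∈ fix 2 V H C) (ht1 : t ≠ 1) (ht2 : t * t = 1) :
    ∃ x ∈ Fx 2 V t, x ∉ C := by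
  obtain ⟨m, hm, hm0⟩ := Submodule.exists_mem_ne_zero_of_ne_bot
    (show Mv 2 V t ≠ ⊥ from fun h => ht1 (Mv_eq_bot_iff.1 h))
  exact ⟨m, Mv_le_Fx_self ht2 hm, fun h =>
    hm0 (Submodule.disjoint_def.1 (hC.invol hB hf ht ht1 ht2).2.2 m h hm)⟩

theorem odd_preserving {t h : H} (ht : t ∈ fix 2 V H C) (ht1 : t ≠ 1) (ht2 : t * t = 1)
    (hh : h ∈ fix 2 V H C) (hho : Odd (orderOf h))
    (hpres : ∀ x ∈ Fx 2 V t, h • x ∈ Fx 2 V t) : h = 1 := by
  obtain ⟨x, hxt, hxC⟩ := hC.exists_Mv_ne hB hf ht ht1 ht2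
  obtain ⟨j, hj, hj2, hjx, hji⟩ := hB.exists_inverter hh x
  have hhx : h • x = h⁻¹ • x := by
    rw [← hji h (Subgroup.mem_zpowers h)]
    rcases eq_or_ne j 1 with rfl | hj1
    · rw [one_smul]
    · have := hC.Fx_eq_of_commute hB hf hj hj1 hj2 ht ht1 ht2
        (hC.commute_of_fixing hB hf hj ht hxC hjx (mem_Fx.1 hxt))
      exact (mem_Fx.1 (this ▸ hpres x hxt)).symm
  have h2 : (h * h) • x = x := by rw [mul_smul, hhx, smul_inv_smul]
  obtain ⟨k, hk⟩ := hho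
  have h3 : (h * h) ^ (k + 1) = h := by
    rw [← pow_two, ← pow_mul, show 2 * (k + 1) = 2 * k + 1 + 1 by omega, pow_succ', ← hk,
      pow_orderOf_eq_one, mul_one]
  have h4 : h • x = x := h3 ▸ (MulAction.mem_stabilizer_iff.1 (pow_mem
    (MulAction.mem_stabilizer_iff.2 h2 : h * h ∈ MulAction.stabilizer H x) _))
  exact eq_one_of_odd ⟨k, hk⟩ (hC.sq_of_fixing hB hf hh hxC h4)

/-- Structure of the stabiliser of a core relative to an involution. -/
theorem struct {t : H} (ht : t ∈ fix 2 V H C) (ht1 : t ≠ 1) (ht2 : t * t = 1) :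
    (∀ j ∈ fix 2 V H (Fx 2 V t), j = 1 ∨ j = t) ∧
    (∀ k ∈ fix 2 V H C, Odd (orderOf k) ∨ Odd (orderOf (k * t))) ∧
    (∀ a ∈ fix 2 V H C, ∀ b ∈ fix 2 V H C, Odd (orderOf a) → Odd (orderOf b) →
      Odd (orderOf (a * b))) ∧
    (∀ a ∈ fix 2 V H C, Odd (orderOf a) → t * a * t⁻¹ = a⁻¹) := by
  set K := fix 2 V H C with hK
  let S0 : Subgroup K := (fix 2 V H (Fx 2 V t)).subgroupOf K
  have hle : C ≤ Fx 2 V t := mem_fix_iff_le.1 ht
  have hlt : Module.finrank (ZMod 2) C < Module.finrank (ZMod 2) (Fx 2 V t) := by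
    refine Submodule.finrank_lt_finrank_of_lt (lt_of_le_of_ne hle fun h => ?_)
    obtain ⟨x, hx, hxC⟩ := hC.exists_Mv_ne hB hf ht ht1 ht2
    exact hxC (h ▸ hx)
  have hS0 : IsPGroup 2 S0 := fun a => ⟨1, Subtype.ext (Subtype.ext (by
    rw [pow_one, pow_two]
    exact hC.sq_of_large hB hf hlt a.2))⟩
  obtain ⟨Q, hQ⟩ := hS0.exists_le_sylow
  have hQsq : ∀ q ∈ (Q : Subgroup K), q * q = 1 := by
    intro q hq
    obtain ⟨i, hi⟩ := Q.isPGroup' ⟨q, hq⟩
    have hqi : q ^ 2 ^ i = 1 := congrArg Subtype.val hi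
    have hodd : Odd (orderOf (q * q)) := by
      rw [← Subgroup.orderOf_coe]; exact hB.odd_orderOf_sq (q : H)
    have hdvd : orderOf (q * q) ∣ 2 ^ i := orderOf_dvd_of_pow_eq_one (by
      rw [← pow_two, ← pow_mul, mul_comm, pow_mul, hqi, one_pow])
    exact orderOf_eq_one_iff.1 (Nat.eq_one_of_dvd_coprimes
      (hodd.coprime_two_right.pow_right i) dvd_rfl hdvd)
  have hQc : ∀ q ∈ (Q : Subgroup K), ∀ r ∈ (Q : Subgroup K), Commute q r := fun q hq r hr =>
    commute_of_sq_two (hQsq q hq) (hQsq r hr) (hQsq _ (mul_mem hq hr))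
  have htQ : (⟨t, ht⟩ : K) ∈ (Q : Subgroup K) := hQ (by
    simp only [S0, Subgroup.mem_subgroupOf]; exact mem_fix_iff_le.2 le_rfl)
  have hQmem : ∀ q ∈ (Q : Subgroup K), (q : H) ≠ 1 → Fx 2 V t = Fx 2 V (q : H) := fun q hq hq1 =>
    hC.Fx_eq_of_commute hB hf q.2 hq1 (congrArg Subtype.val (hQsq q hq)) ht ht1 ht2
      (congrArg Subtype.val (hQc q hq _ htQ))
  have hN : Subgroup.normalizer ((Q : Subgroup K) : Set K) ≤
      Subgroup.centralizer ((Q : Subgroup K) : Set K) := by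
    intro n hn
    have hn' := (Subgroup.mem_normalizer_iff.1 hn ⟨t, ht⟩).1 htQ
    have hpres : ∀ x ∈ Fx 2 V t, (n : H) • x ∈ Fx 2 V t := by
      intro x hx
      have h1 : (n : H) • x ∈ Fx 2 V ((n : H) * t * (n : H)⁻¹) := mem_Fx_conj.2 hx
      have h2 := hQmem _ hn' (by simpa using ht1)
      simp only [Subgroup.coe_mul, Subgroup.coe_inv] at h2
      exact h2.symm ▸ h1
    have hn2 : (n : H) * n = 1 := hC.odd_preserving hB hf ht ht1 ht2 (mul_mem n.2 n.2)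
      (hB.odd_orderOf_sq _) fun x hx => by rw [mul_smul]; exact hpres _ (hpres x hx)
    obtain ⟨x, hxt, hxC, hnx⟩ : ∃ x ∈ Fx 2 V t, x ∉ C ∧ (n : H) • x = x := by
      obtain ⟨x, hxt, hxC⟩ := hC.exists_Mv_ne hB hf ht ht1 ht2
      by_cases hy : (n : H) • x - x ∈ C
      · refine ⟨x, hxt, hxC, ?_⟩
        rcases eq_or_ne (n : H) 1 with h1 | h1
        · rw [h1, one_smul]
        · exact sub_eq_zero.1 (Submodule.disjoint_def.1 (hC.invol hB hf n.2 h1 hn2).2.2 _ hy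
            (sub_mem_Mv _ x))
      · exact ⟨_, Submodule.sub_mem _ (hpres x hxt) hxt, hy,
          mem_Fx.1 (Mv_le_Fx_self hn2 (sub_mem_Mv _ x))⟩
    have hnQ : n ∈ (Q : Subgroup K) := by
      rcases eq_or_ne (n : H) 1 with h1 | h1
      · rw [show n = 1 from Subtype.ext h1]; exact one_mem _
      · refine hQ ?_
        simp only [S0, Subgroup.mem_subgroupOf]
        exact mem_fix_iff_le.2 (hC.Fx_eq_of_commute hB hf n.2 h1 hn2 ht ht1 ht2
          (hC.commute_of_fixing hB hf n.2 ht hxC hnx (mem_Fx.1 hxt))).le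
    exact Subgroup.mem_centralizer_iff.2 fun q hq => (hQc q hq n hnQ).eq
  set A := (MonoidHom.transferSylow Q hN).ker with hA
  have hAodd : ∀ a ∈ A, Odd (orderOf a) := fun a ha => by
    have h1 : ¬ 2 ∣ Nat.card A := MonoidHom.not_dvd_card_ker_transferSylow Q hN
    rw [← Nat.not_even_iff_odd, even_iff_two_dvd]
    intro h2
    refine h1 (h2.trans ?_)
    have := orderOf_dvd_natCard (⟨a, ha⟩ : A)
    rwa [← Subgroup.orderOf_coe] at this
  have hmemA : ∀ a : K, Odd (orderOf a) → a ∈ A := fun a ha => by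
    rw [hA, MonoidHom.mem_ker]
    exact eq_one_of_odd (ha.of_dvd_nat (orderOf_map_dvd _ _))
      (Subtype.ext (hQsq _ (MonoidHom.transferSylow Q hN a).2))
  have hinv : ∀ r : K, r ≠ 1 → r * r = 1 → ∀ a ∈ A, r * a * r⁻¹ = a⁻¹ := by
    intro r hr1 hr2 a ha
    have hr1' : (r : H) ≠ 1 := fun h => hr1 (Subtype.ext h)
    have hr2' : (r : H) * r = 1 := congrArg Subtype.val hr2
    have hri : r⁻¹ = r := inv_eq_of_mul_eq_one_left hr2
    let φ : A → A := fun b => ⟨(b : K)⁻¹ * (r * b * r⁻¹),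
      mul_mem (inv_mem b.2) ((inferInstance : A.Normal).conj_mem _ b.2 r)⟩
    have hinj : Function.Injective φ := by
      intro b c hbc
      have h1 : (b : K)⁻¹ * (r * b * r⁻¹) = (c : K)⁻¹ * (r * c * r⁻¹) := congrArg Subtype.val hbc
      have hd : (c : K) * (b : K)⁻¹ ∈ A := mul_mem c.2 (inv_mem b.2)
      have hcom : r * ((c : K) * (b : K)⁻¹) = (c : K) * (b : K)⁻¹ * r := by
        have h2 : (c : K) * ((b : K)⁻¹ * (r * b * r⁻¹)) * r = r * c := by
          rw [h1]; group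
        calc r * ((c : K) * (b : K)⁻¹)
            = (r * c) * (b : K)⁻¹ := (mul_assoc _ _ _).symm
          _ = (c : K) * ((b : K)⁻¹ * (r * b * r⁻¹)) * r * (b : K)⁻¹ := by rw [h2]
          _ = (c : K) * (b : K)⁻¹ * r := by group
      have hone := hC.odd_preserving hB hf r.2 hr1' hr2' ((c : K) * (b : K)⁻¹).2
        (by rw [Subgroup.orderOf_coe]; exact hAodd _ hd)
        fun x hx => smul_mem_Fx_of_comm (congrArg Subtype.val hcom.symm) hx
      have : (c : K) * (b : K)⁻¹ = 1 := Subtype.ext hone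
      exact Subtype.ext (mul_inv_eq_one.1 this).symm
    obtain ⟨b, hb⟩ := Finite.injective_iff_surjective.1 hinj ⟨a, ha⟩
    have hb' : (b : K)⁻¹ * (r * b * r⁻¹) = a := congrArg Subtype.val hb
    rw [← hb', hri]
    rw [show r * ((b : K)⁻¹ * (r * b * r)) * r = r * (b : K)⁻¹ * r * b * (r * r) by group, hr2,
      mul_one, mul_inv_rev, mul_inv_rev, mul_inv_rev, inv_inv, hri]
    simp only [mul_assoc]
  obtain ⟨g, hg1, hgo, hgC⟩ := hC.wit
  have hgK : g ∈ K := mem_fix_iff_le.2 hgC.ge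
  have hgA : (⟨g, hgK⟩ : K) ∈ A := hmemA _ (by rwa [Subgroup.orderOf_mk])
  have hsmall : ∀ q ∈ (Q : Subgroup K), q = 1 ∨ q = ⟨t, ht⟩ := by
    intro q hq
    by_contra hne
    push Not at hne
    obtain ⟨hq1, hqt⟩ := hne
    have ht2' : (⟨t, ht⟩ : K) * ⟨t, ht⟩ = 1 := Subtype.ext ht2
    have hu1 : q * ⟨t, ht⟩ ≠ 1 := fun h =>
      hqt ((eq_inv_of_mul_eq_one_left h).trans (inv_eq_of_mul_eq_one_left ht2'))
    have h1 := hinv q hq1 (hQsq q hq) _ hgA
    have h2 := hinv ⟨t, ht⟩ (fun h => ht1 (congrArg Subtype.val h)) ht2' _ hgA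
    have h3 := hinv _ hu1 (hQsq _ (mul_mem hq htQ)) _ hgA
    have h4 : q * ⟨t, ht⟩ * ⟨g, hgK⟩ * (q * ⟨t, ht⟩)⁻¹ = ⟨g, hgK⟩ := by
      rw [show q * ⟨t, ht⟩ * ⟨g, hgK⟩ * (q * ⟨t, ht⟩)⁻¹ =
        q * (⟨t, ht⟩ * ⟨g, hgK⟩ * (⟨t, ht⟩ : K)⁻¹) * q⁻¹ by group, h2,
        show q * (⟨g, hgK⟩ : K)⁻¹ * q⁻¹ = (q * ⟨g, hgK⟩ * q⁻¹)⁻¹ by group, h1, inv_inv]
    have h5 : g * g = 1 := mul_eq_one_iff_eq_inv.2 (congrArg Subtype.val (h4.symm.trans h3))
    exact hg1 (eq_one_of_odd hgo h5)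
  refine ⟨fun j hj => ?_, fun k hk => ?_, fun a ha b hb hao hbo => ?_, fun a ha hao => ?_⟩
  · have hjK : j ∈ K := mem_fix_iff_le.2 (hle.trans (mem_fix_iff_le.1 hj))
    rcases hsmall ⟨j, hjK⟩ (hQ (by simpa [S0, Subgroup.mem_subgroupOf] using hj)) with h | h
    · exact Or.inl (congrArg Subtype.val h)
    · exact Or.inr (congrArg Subtype.val h)
  · obtain ⟨⟨a, q⟩, haq, -⟩ :=
      (MonoidHom.ker_transferSylow_isComplement' Q hN).existsUnique (⟨k, hk⟩ : K)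
    simp only at haq
    rcases hsmall q q.2 with h | h
    · refine Or.inl ?_
      rw [h, mul_one] at haq
      rw [← Subgroup.orderOf_mk k hk, ← haq]
      exact hAodd _ a.2
    · refine Or.inr ?_
      rw [h] at haq
      have hkt : k * t = ((a : K) : H) := by
        have := congrArg Subtype.val haq
        simp only [Subgroup.coe_mul] at this
        rw [← this, mul_assoc, ht2, mul_one]
      rw [hkt, Subgroup.orderOf_coe]
      exact hAodd _ a.2
  · have := hAodd _ (mul_mem (hmemA ⟨a, ha⟩ (by rwa [Subgroup.orderOf_mk]))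
      (hmemA ⟨b, hb⟩ (by rwa [Subgroup.orderOf_mk])))
    rwa [← Subgroup.orderOf_coe] at this
  · exact congrArg Subtype.val (hinv ⟨t, ht⟩ (fun h => ht1 (congrArg Subtype.val h))
      (Subtype.ext ht2) ⟨a, ha⟩ (hmemA _ (by rwa [Subgroup.orderOf_mk])))

/-- The line of a core. -/
theorem exists_line : ∃ P : Submodule (ZMod 2) V, IsLine V H f C P := by
  obtain ⟨g, hg1, hgo, hgC⟩ := hC.wit
  have hgK : g ∈ fix 2 V H C := mem_fix_iff_le.2 hgC.ge
  have hcompl : IsCompl C (Mv 2 V g) := hgC ▸ isCompl_of_odd hgo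
  have hdimP : Module.finrank (ZMod 2) (Mv 2 V g) = 2 * f := by
    have h1 := rk_add (p := 2) (V := V) g
    rw [hgC] at h1
    have := hC.dim
    simp only [rk] at h1
    omega
  obtain ⟨x0, hx0⟩ := hC.exists_not_mem hB
  obtain ⟨t0, u0, ht0, hu0, ht0C, -, hnc0, -⟩ := hC.exists_pair_fixing hB hx0
  have ht01 : t0 ≠ 1 := fun h => hnc0 (h ▸ Commute.one_left u0)
  obtain ⟨-, hdec, hmul, hinv⟩ := hC.struct hB hf ht0C ht01 ht0
  have hcomm : ∀ a ∈ fix 2 V H C, Odd (orderOf a) → a * g * a⁻¹ = g := by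
    intro a ha hao
    have h2 := hinv _ (mul_mem ha hgK) (hmul a ha g hgK hao hgo)
    rw [show t0 * (a * g) * t0⁻¹ = (t0 * a * t0⁻¹) * (t0 * g * t0⁻¹) by group, hinv a ha hao,
      hinv g hgK hgo, ← mul_inv_rev, inv_inj] at h2
    rw [← h2, mul_inv_cancel_right]
  have hpres : ∀ k ∈ fix 2 V H C, ∀ x ∈ Mv 2 V g, k • x ∈ Mv 2 V g := by
    intro k hk x hx
    rcases hdec k hk with ho | ho
    · have := mem_Mv_conj (h := k) |>.2 hx
      rwa [hcomm k hk ho] at this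
    · have h1 := mem_Mv_conj (h := k) |>.2 hx
      have h2 : k * g * k⁻¹ = g⁻¹ := by
        have hti : t0⁻¹ = t0 := inv_eq_of_mul_eq_one_left ht0
        have h3 := hcomm _ (mul_mem hk ht0C) ho
        have h4 := hinv g hgK hgo
        calc k * g * k⁻¹ = (k * t0) * (t0 * g * t0⁻¹) * (k * t0)⁻¹ := by
              rw [mul_inv_rev, hti]
              rw [show k * t0 * (t0 * g * t0) * (t0 * k⁻¹) =
                k * (t0 * t0) * g * (t0 * t0) * k⁻¹ by group, ht0, mul_one, mul_one]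
          _ = ((k * t0) * g * (k * t0)⁻¹)⁻¹ := by rw [h4]; group
          _ = g⁻¹ := by rw [h3]
      rw [h2] at h1
      obtain ⟨v, hv⟩ := mem_Mv.1 h1
      rw [← hv]
      have := Submodule.neg_mem _ (sub_mem_Mv (p := 2) g (g⁻¹ • v))
      rwa [smul_inv_smul, neg_sub] at this
  have hmv : ∀ k ∈ fix 2 V H C, Mv 2 V k ≤ Mv 2 V g := by
    intro k hk x hx
    obtain ⟨v, rfl⟩ := mem_Mv.1 hx
    obtain ⟨c, hc, q, hq, rfl⟩ :=
      Submodule.mem_sup.1 (hcompl.sup_eq_top ▸ Submodule.mem_top : v ∈ C ⊔ Mv 2 V g)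
    rw [smul_add, mem_fix.1 hk c hc, add_sub_add_left_eq_sub]
    exact Submodule.sub_mem _ (hpres k hk q hq) hq
  have hinvol : ∀ t ∈ fix 2 V H C, t ≠ 1 → t * t = 1 → IsInv V f t ∧ Fx 2 V t = C ⊔ Mv 2 V t :=
    fun t ht h1 h2 => ⟨(hC.invol hB hf ht h1 h2).1, (hC.invol hB hf ht h1 h2).2.1⟩
  have hcommeq : ∀ r ∈ fix 2 V H C, ∀ t ∈ fix 2 V H C, IsInv V f r → IsInv V f t →
      Commute r t → r = t := fun r hr t ht hri hti hc =>
    ((hC.struct hB hf ht hti.1 hti.2.1).1 r (mem_fix_iff_le.2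
      (hC.Fx_eq_of_commute hB hf hr hri.1 hri.2.1 ht hti.1 hti.2.1 hc).le)).resolve_left hri.1
  have huniq : ∀ r ∈ fix 2 V H C, ∀ t ∈ fix 2 V H C, IsInv V f r → IsInv V f t →
      ∀ x ≠ (0 : V), x ∈ Mv 2 V r → x ∈ Mv 2 V t → r = t := fun r hr t ht hri hti x hx h1 h2 =>
    hcommeq r hr t ht hri hti (hC.commute_of_fixing hB hf hr ht
      (fun h => hx (Submodule.disjoint_def.1 hcompl.disjoint x h (hmv r hr h1)))
      (mem_Fx.1 (Mv_le_Fx_self hri.2.1 h1)) (mem_Fx.1 (Mv_le_Fx_self hti.2.1 h2)))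
  refine ⟨Mv 2 V g, hcompl, hdimP, hmv, hinvol, fun x hx hx0 => ?_, huniq, hcommeq,
    fun r hr t ht hri hti => ?_, fun k hk t ht hti x hkx => ?_⟩
  · have hxC : x ∉ C := fun h => hx0 (Submodule.disjoint_def.1 hcompl.disjoint x h hx)
    obtain ⟨t, u, ht, -, htC, -, hnc, htx⟩ := hC.exists_pair_fixing hB hxC
    obtain ⟨hti, hF⟩ := hinvol t htC (fun h => hnc (h ▸ Commute.one_left u)) ht
    refine ⟨t, htC, hti, ?_⟩
    obtain ⟨c, hc, m, hm, hcm⟩ := Submodule.mem_sup.1 (hF ▸ mem_Fx.2 htx : x ∈ C ⊔ Mv 2 V t)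
    have hc0 : c = 0 := Submodule.disjoint_def.1 hcompl.disjoint c hc (by
      have : c = x - m := by rw [← hcm, add_sub_cancel_right]
      rw [this]
      exact Submodule.sub_mem _ hx (hmv t htC hm))
    rwa [← hcm, hc0, zero_add]
  · obtain ⟨-, hdt, -, hit⟩ := hC.struct hB hf ht hti.1 hti.2.1
    have hoa : Odd (orderOf (r * t)) := (hdt r hr).resolve_left fun h =>
      hri.1 (eq_one_of_odd h hri.2.1)
    obtain ⟨i, hi⟩ := hoa
    refine ⟨((r * t) ^ (i + 1))⁻¹, inv_mem (pow_mem (mul_mem hr ht) _), ?_⟩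
    have hb2 : (r * t) ^ (i + 1) * (r * t) ^ (i + 1) = r * t := by
      rw [← pow_add, show i + 1 + (i + 1) = 2 * i + 1 + 1 by omega, pow_succ', ← hi,
        pow_orderOf_eq_one, mul_one]
    have hbi := hit _ (pow_mem (mul_mem hr ht) (i + 1)) (by
      exact Odd.of_dvd_nat (n := orderOf (r * t)) ⟨i, hi⟩ (orderOf_pow_dvd _))
    have hr' : r = (r * t) ^ (i + 1) * (r * t) ^ (i + 1) * t := by
      rw [hb2, mul_assoc, hti.2.1, mul_one]
    have hti' : t⁻¹ = t := inv_eq_of_mul_eq_one_left hti.2.1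
    rw [inv_inv]
    set b := (r * t) ^ (i + 1)
    rw [hr']
    rw [show b⁻¹ * (b * b * t) * b = b * (t * b * t⁻¹) * t by group, hbi, mul_inv_cancel, one_mul]
  · obtain ⟨j, hj, hj2, hjx⟩ := hB.exists_swapper hk x
    by_contra hne
    push Not at hne
    have hj1 : j ≠ 1 := fun h => hne.1 (by rw [← hjx, h, one_smul])
    have := huniq j hj t ht (hinvol j hj hj1 hj2).1 hti (k • x - x) (sub_ne_zero.2 hne.1)
      (by rw [← hjx]; exact sub_mem_Mv j x) hkx
    exact hne.2 (by rw [← hjx, this])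

end IsCore2

end Cfsg.Agent.BinAff
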